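import Mathlib
import Cfsg.Prelude.Def_Classical

/-!
# Elements of order 65 in five classical groups over eight elements

`SL(2, 64)` has an element of order 65 and maps injectively into `SL(4, 8)`, `Sp(4, 8)`, `Sp(6, 8)` and
`SU(4, 8)`; the image is never central, so each projective group has an element of order 65.
-/

set_option autoImplicit false

namespace CfsgLib.Lie.SixtyFiveE7

open Matrix
open scoped MatrixGroups

variable {F : Type*} [Field F] [Fintype F]

theorem charP_two_of_card_pow {n : ℕ} (h : Fintype.card F = 2 ^ n) : CharP F 2 := by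
  obtain ⟨k, hp, hk⟩ := FiniteField.card F (ringChar F)
  have h1 : ringChar F ∣ 2 ^ n := by rw [← h, hk]; exact dvd_pow_self _ k.ne_zero
  exact (Nat.prime_dvd_prime_iff_eq hp Nat.prime_two).1 (hp.dvd_of_dvd_pow h1) ▸ ringChar.charP F

/-- `SL(2, 64)` has an element of order 65 -/
theorem exists_order_sl2 (h : Fintype.card F = 64) : ∃ z : SL(2, F), orderOf z = 65 := by
  classical
  haveI := charP_two_of_card_pow (n := 6) (h.trans (by norm_num))
  set K := AlgebraicClosure F
  set ι := algebraMap F K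
  haveI : CharP K 2 := charP_of_injective_ringHom ι.injective 2
  haveI : NeZero ((65 : ℕ) : K) := ⟨by
    intro e
    have := (CharP.cast_eq_zero_iff K 2 65).1 e
    omega⟩
  obtain ⟨ω, hω⟩ := HasEnoughRootsOfUnity.exists_primitiveRoot K 65
  have hω0 : ω ≠ 0 := hω.ne_zero (by norm_num)
  have h64 : ω ^ 64 = ω⁻¹ := eq_inv_of_mul_eq_one_left (by rw [← pow_succ]; exact hω.pow_eq_one)
  have hfix : (ω + ω⁻¹) ^ 64 = ω + ω⁻¹ := by
    rw [show (64 : ℕ) = 2 ^ 6 from rfl, add_pow_char_pow, inv_pow, show (2 : ℕ) ^ 6 = 64 from rfl, h64,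
      inv_inv, add_comm]
  have hex : ∃ t, ι t = ω + ω⁻¹ := by
    by_contra hne
    push Not at hne
    have h0 : (Polynomial.X ^ 64 - Polynomial.X : Polynomial K) = 0 := by
      refine Polynomial.eq_zero_of_natDegree_lt_card_of_eval_eq_zero _
        (f := fun o : Option F => o.elim (ω + ω⁻¹) ι) ?_ (fun o => ?_) ?_
      · rintro (_ | x) (_ | y) e
        · rfl
        · exact absurd e.symm (hne y)
        · exact absurd e (hne x)
        · exact congrArg some (ι.injective e)
      · cases o with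
        | none => simp [hfix]
        | some x => simp [← map_pow, ← h, FiniteField.pow_card]
      · rw [FiniteField.X_pow_card_sub_X_natDegree_eq _ (by norm_num : 1 < 64), Fintype.card_option, h]
        norm_num
    exact FiniteField.X_pow_card_sub_X_ne_zero _ (by norm_num : 1 < 64) h0
  obtain ⟨t, ht⟩ := hex
  have hdet : (!![t, 1; 1, 0] : Matrix (Fin 2) (Fin 2) F).det = 1 := by
    simp [Matrix.det_fin_two, CharTwo.neg_eq]
  set z : SL(2, F) := ⟨_, hdet⟩
  refine ⟨z, ?_⟩
  set P : Matrix (Fin 2) (Fin 2) K := !![ω, ω⁻¹; 1, 1]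
  set D : Matrix (Fin 2) (Fin 2) K := Matrix.diagonal ![ω, ω⁻¹]
  have h2 : (2 : K) = 0 := CharTwo.two_eq_zero
  have hP : P.det ≠ 0 := by
    rw [Matrix.det_fin_two]
    simp only [P, Matrix.of_apply, Matrix.cons_val', Matrix.cons_val_zero, Matrix.cons_val_one,
      Matrix.empty_val', Matrix.cons_val_fin_one, mul_one]
    intro e
    have e2 : ω ^ 2 = 1 := by
      rw [sub_eq_zero] at e
      calc ω ^ 2 = ω * ω := sq ω
        _ = ω * ω⁻¹ := by rw [← e]
        _ = 1 := mul_inv_cancel₀ hω0
    have := hω.dvd_of_pow_eq_one 2 e2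
    omega
  have hzP : z.1.map ι * P = P * D := by
    have hm : z.1.map ι = !![ω + ω⁻¹, 1; 1, 0] := by
      ext i j
      fin_cases i <;> fin_cases j <;> simp [z, ht]
    rw [hm]
    ext i j
    fin_cases i <;> fin_cases j <;>
      simp [P, D, Matrix.mul_apply, Fin.sum_univ_two]
    · linear_combination (mul_inv_cancel₀ hω0) + h2
    · linear_combination (mul_inv_cancel₀ hω0) + h2
  have hpow : ∀ n : ℕ, (z ^ n).1.map ι * P = P * D ^ n := by
    intro n
    induction n with
    | zero => simp [Matrix.map_one]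
    | succ n ih =>
      rw [pow_succ', pow_succ, show (z * z ^ n).1 = z.1 * (z ^ n).1 from rfl, Matrix.map_mul, mul_assoc,
        ih, ← mul_assoc, hzP, mul_assoc, ← pow_succ', pow_succ]
  have hone : ∀ n : ℕ, z ^ n = 1 ↔ ω ^ n = 1 := by
    intro n
    constructor
    · intro e
      have e1 := hpow n
      rw [e, show (1 : SL(2, F)).1 = 1 from rfl, Matrix.map_one _ (map_zero ι) (map_one ι), one_mul] at e1
      have hu : IsUnit P.det := isUnit_iff_ne_zero.2 hP
      have e2 : D ^ n = 1 := by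
        have := congrArg (P⁻¹ * ·) e1
        simpa [← mul_assoc, Matrix.nonsing_inv_mul P hu] using this.symm
      have e3 := congrFun (congrFun e2 0) 0
      simpa [D, Matrix.diagonal_pow] using e3
    · intro e
      have e2 : D ^ n = 1 := by
        rw [Matrix.diagonal_pow, ← Matrix.diagonal_one]
        congr 1
        funext i
        fin_cases i <;> simp [e]
      have e1 := hpow n
      rw [e2, mul_one] at e1
      have hu : IsUnit P.det := isUnit_iff_ne_zero.2 hP
      have e3 := congrArg (· * P⁻¹) e1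
      simp only [mul_assoc, Matrix.mul_nonsing_inv P hu, mul_one] at e3
      refine Subtype.ext (Matrix.map_injective ι.injective ?_)
      show (z ^ n).1.map ι = (1 : Matrix (Fin 2) (Fin 2) F).map ι
      rw [e3, Matrix.map_one _ (map_zero ι) (map_one ι)]
  rw [orderOf_eq_iff (by norm_num)]
  refine ⟨(hone 65).2 hω.pow_eq_one, fun n hn hn0 e => ?_⟩
  exact Nat.not_le.2 hn (Nat.le_of_dvd hn0 (hω.dvd_of_pow_eq_one n ((hone n).1 e)))

/-- an element of `SL(2)` in characteristic two that commutes with everything is trivial -/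
theorem eq_one_of_central [CharP F 2] {g : SL(2, F)} (h : ∀ x, g * x = x * g) : g = 1 := by
  have hu : (!![1, 1; 0, 1] : Matrix (Fin 2) (Fin 2) F).det = 1 := by simp [Matrix.det_fin_two]
  have hl : (!![1, 0; 1, 1] : Matrix (Fin 2) (Fin 2) F).det = 1 := by simp [Matrix.det_fin_two]
  have e1 : g.1 * !![1, 1; 0, 1] = !![1, 1; 0, 1] * g.1 := congrArg Subtype.val (h ⟨_, hu⟩)
  have e2 : g.1 * !![1, 0; 1, 1] = !![1, 0; 1, 1] * g.1 := congrArg Subtype.val (h ⟨_, hl⟩)
  have a1 := congrFun (congrFun e1 0) 0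
  have a2 := congrFun (congrFun e1 0) 1
  have a3 := congrFun (congrFun e2 0) 0
  simp [Matrix.mul_apply, Fin.sum_univ_two] at a1 a2 a3
  have hd := Matrix.det_fin_two g.1
  rw [g.2] at hd
  have hb : g.1 0 1 = 0 := by linear_combination a3
  have hc : g.1 1 0 = 0 := a1
  have hdd : g.1 1 1 = g.1 0 0 := by linear_combination -a2
  have ha : g.1 0 0 = 1 := by
    rw [hb, hc, hdd] at hd
    have h6 : (g.1 0 0 + 1) ^ 2 = 0 := by
      linear_combination -hd + (g.1 0 0 + 1) * CharTwo.two_eq_zero (R := F)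
    exact CharTwo.add_eq_zero.1 ((pow_eq_zero_iff (by norm_num)).1 h6)
  refine Subtype.ext ?_
  ext i j
  fin_cases i <;> fin_cases j <;> simp [ha, hb, hc, hdd]

/-- a group into which `SL(2, 64)` maps injectively has an element of order 65 modulo its centre -/
theorem exists_order_quot (h : Fintype.card F = 64) {X : Type*} [Group X] (f : SL(2, F) →* X)
    (hf : Function.Injective f) : ∃ q : X ⧸ Subgroup.center X, orderOf q = 65 := by
  haveI := charP_two_of_card_pow (n := 6) (h.trans (by norm_num))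
  obtain ⟨z, hz⟩ := exists_order_sl2 h
  refine ⟨QuotientGroup.mk (f z), ?_⟩
  have key : ∀ n : ℕ, (QuotientGroup.mk (f z) : X ⧸ Subgroup.center X) ^ n = 1 → z ^ n = 1 := fun n e => by
    rw [← QuotientGroup.mk_pow, QuotientGroup.eq_one_iff, ← map_pow, Subgroup.mem_center_iff] at e
    refine eq_one_of_central fun x => hf ?_
    rw [map_mul, map_mul, e]
  rw [orderOf_eq_iff (by norm_num)]
  refine ⟨by rw [← QuotientGroup.mk_pow, ← map_pow, ← hz, pow_orderOf_eq_one, map_one]; rfl,
    fun n hn hn0 e => ?_⟩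
  exact Nat.not_le.2 hn (Nat.le_of_dvd hn0 (hz ▸ orderOf_dvd_of_pow_eq_one (key n e)))

variable {E : Type*} [Field E] [Fintype E]

/-- coordinates of the field of 64 elements over the field of eight elements -/
theorem exists_coords (h8 : Fintype.card E = 8) (h64 : Fintype.card F = 64) :
    ∃ (j : E →+* F) (θ : F) (d : E) (u v : F → E), θ ^ 8 + θ = 1 ∧ θ ^ 2 = θ + j d ∧
      (∀ a, a = j (u a) + j (v a) * θ) ∧ ∀ x y, u (j x + j y * θ) = x ∧ v (j x + j y * θ) = y := by
  classical
  haveI := charP_two_of_card_pow (F := E) (n := 3) (h8.trans (by norm_num))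
  haveI := charP_two_of_card_pow (F := F) (n := 6) (h64.trans (by norm_num))
  letI := ZMod.algebra E 2
  letI := ZMod.algebra F 2
  haveI : Fact (Nat.Prime 2) := ⟨Nat.prime_two⟩
  have hrE : Module.finrank (ZMod 2) E = 3 := by
    have := Module.card_eq_pow_finrank (K := ZMod 2) (V := E)
    rw [h8, ZMod.card] at this
    exact (Nat.pow_right_injective le_rfl (this.symm.trans (by norm_num : (8 : ℕ) = 2 ^ 3)))
  have hrF : Module.finrank (ZMod 2) F = 6 := by
    have := Module.card_eq_pow_finrank (K := ZMod 2) (V := F)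
    rw [h64, ZMod.card] at this
    exact (Nat.pow_right_injective le_rfl (this.symm.trans (by norm_num : (64 : ℕ) = 2 ^ 6)))
  obtain ⟨φ⟩ := FiniteField.nonempty_algHom_of_finrank_dvd (F := ZMod 2) (K := E) (L := F)
    (by rw [hrE, hrF]; norm_num)
  set j : E →+* F := φ.toRingHom
  have hj8 : ∀ x, j x ^ 8 = j x := fun x => by rw [← map_pow, ← h8, FiniteField.pow_card]
  have hrange : ∀ a : F, a ^ 8 = a → ∃ x, j x = a := by
    intro a ha
    by_contra hne
    push Not at hne
    have h0 : (Polynomial.X ^ 8 - Polynomial.X : Polynomial F) = 0 := by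
      refine Polynomial.eq_zero_of_natDegree_lt_card_of_eval_eq_zero _
        (f := fun o : Option E => o.elim a j) ?_ (fun o => ?_) ?_
      · rintro (_ | x) (_ | y) e
        · rfl
        · exact absurd e.symm (hne y)
        · exact absurd e (hne x)
        · exact congrArg some (j.injective e)
      · cases o with
        | none => simp [ha]
        | some x => simp [hj8]
      · rw [FiniteField.X_pow_card_sub_X_natDegree_eq _ (by norm_num : 1 < 8), Fintype.card_option, h8]
        norm_num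
    exact FiniteField.X_pow_card_sub_X_ne_zero _ (by norm_num : 1 < 8) h0
  have hsurj : ¬ Function.Surjective j := fun hs => by
    have := Fintype.card_le_of_surjective j hs
    rw [h8, h64] at this
    omega
  obtain ⟨a, ha⟩ : ∃ a, ∀ x, j x ≠ a := by
    simpa [Function.Surjective] using hsurj
  have ha8 : a ^ 8 + a ≠ 0 := fun e => by
    obtain ⟨x, hx⟩ := hrange a (CharTwo.add_eq_zero.1 e)
    exact ha x hx
  have hpow : ∀ x y : F, (x + y) ^ 8 = x ^ 8 + y ^ 8 := fun x y => add_pow_char_pow x y 2 3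
  have hs8 : (a ^ 8 + a) ^ 8 = a ^ 8 + a := by
    rw [hpow, ← pow_mul, show 8 * 8 = Fintype.card F by rw [h64], FiniteField.pow_card, add_comm]
  set θ := a / (a ^ 8 + a) with hθdef
  have hθ : θ ^ 8 + θ = 1 := by
    rw [hθdef, div_pow, hs8, ← add_div, div_self ha8]
  have hfix : (θ ^ 2 + θ) ^ 8 = θ ^ 2 + θ := by
    have e : θ ^ 8 = θ + 1 := by linear_combination hθ - θ * CharTwo.two_eq_zero (R := F)
    rw [hpow, ← pow_mul, mul_comm 2 8, pow_mul, e]
    linear_combination (θ + 1) * CharTwo.two_eq_zero (R := F)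
  obtain ⟨d, hd⟩ := hrange _ hfix
  have hθj : ∀ x, j x ≠ θ := fun x e => by
    rw [← e, hj8, CharTwo.add_self_eq_zero] at hθ
    exact zero_ne_one hθ
  let g : E × E → F := fun p => j p.1 + j p.2 * θ
  have hg : Function.Bijective g := by
    refine (Fintype.bijective_iff_injective_and_card g).2 ⟨fun p q e => ?_, ?_⟩
    · simp only [g] at e
      by_cases hy : p.2 = q.2
      · rw [hy, add_left_inj] at e
        exact Prod.ext (j.injective e) hy
      · exfalso
        refine hθj ((p.1 - q.1) / (q.2 - p.2)) ?_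
        rw [map_div₀, map_sub, map_sub, div_eq_iff (sub_ne_zero.2 fun h => hy (j.injective h).symm)]
        linear_combination e
    · rw [Fintype.card_prod, h8, h64]
  let e := Equiv.ofBijective g hg
  refine ⟨j, θ, d, fun a => (e.symm a).1, fun a => (e.symm a).2, hθ, ?_,
    fun b => (e.apply_symm_apply b).symm, fun x y => ?_⟩
  · linear_combination -hd - θ * CharTwo.two_eq_zero (R := F)
  · have := e.symm_apply_apply (x, y)
    exact ⟨congrArg Prod.fst this, congrArg Prod.snd this⟩

/-- a ring homomorphism to `2 × 2` matrices over the small field, self-adjoint for a symmetric form -/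
theorem exists_matHom (h8 : Fintype.card E = 8) (h64 : Fintype.card F = 64) :
    ∃ M : F →+* Matrix (Fin 2) (Fin 2) E, Function.Injective M ∧
      ∀ a, (!![0, 1; 1, 1] : Matrix (Fin 2) (Fin 2) E) * M a = (M a)ᵀ * !![0, 1; 1, 1] := by
  haveI := charP_two_of_card_pow (F := E) (n := 3) (h8.trans (by norm_num))
  haveI := charP_two_of_card_pow (F := F) (n := 6) (h64.trans (by norm_num))
  obtain ⟨j, θ, d, u, v, -, hθ2, huv, huniq⟩ := exists_coords h8 h64
  have key : ∀ {a : F} {x y : E}, a = j x + j y * θ → u a = x ∧ v a = y := fun {a x y} h => h ▸ huniq x y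
  have hadd : ∀ a b, u (a + b) = u a + u b ∧ v (a + b) = v a + v b := fun a b => key (by
    rw [map_add, map_add]
    conv_lhs => rw [huv a, huv b]
    ring)
  have hmul : ∀ a b, u (a * b) = u a * u b + v a * v b * d ∧
      v (a * b) = u a * v b + v a * u b + v a * v b := fun a b => key (by
    simp only [map_add, map_mul]
    conv_lhs => rw [huv a, huv b]
    linear_combination j (v a) * j (v b) * hθ2)
  have h1 : u 1 = 1 ∧ v 1 = 0 := key (by simp)
  have h0 : u 0 = 0 ∧ v 0 = 0 := key (by simp)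
  let Mf : F → Matrix (Fin 2) (Fin 2) E := fun a => !![u a, v a * d; v a, u a + v a]
  refine ⟨{ toFun := Mf
            map_one' := by ext i j; fin_cases i <;> fin_cases j <;> simp [Mf, h1]
            map_mul' := fun a b => by
              ext i j
              fin_cases i <;> fin_cases j <;> simp [Mf, (hmul a b).1, (hmul a b).2, Matrix.mul_apply] <;> ring
            map_zero' := by ext i j; fin_cases i <;> fin_cases j <;> simp [Mf, h0]
            map_add' := fun a b => by
              ext i j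
              fin_cases i <;> fin_cases j <;> simp [Mf, (hadd a b).1, (hadd a b).2] <;> ring },
    fun a b e => ?_, fun a => ?_⟩
  · have e00 : u a = u b := congrFun (congrFun e 0) 0
    have e10 : v a = v b := congrFun (congrFun e 1) 0
    rw [huv a, huv b, e00, e10]
  · show _ * Mf a = (Mf a)ᵀ * _
    ext i j
    fin_cases i <;> fin_cases j <;> simp [Mf, Matrix.mul_apply]

/-- `SL(2, 64)` in `Sp(4, 8)` -/
theorem exists_hom_sp4 (h8 : Fintype.card E = 8) (h64 : Fintype.card F = 64) :
    ∃ f : SL(2, F) →* Matrix.symplecticGroup (Fin 2) E, Function.Injective f := by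
  haveI := charP_two_of_card_pow (F := E) (n := 3) (h8.trans (by norm_num))
  haveI := charP_two_of_card_pow (F := F) (n := 6) (h64.trans (by norm_num))
  obtain ⟨M, hM, hsym⟩ := exists_matHom h8 h64
  set G : Matrix (Fin 2) (Fin 2) E := !![0, 1; 1, 1]
  set Gi : Matrix (Fin 2) (Fin 2) E := !![1, 1; 1, 0]
  have hGG : G * Gi = 1 := by
    ext i j; fin_cases i <;> fin_cases j <;> simp [G, Gi, Matrix.mul_apply, CharTwo.add_self_eq_zero]
  have hGG' : Gi * G = 1 := by
    ext i j; fin_cases i <;> fin_cases j <;> simp [G, Gi, Matrix.mul_apply, CharTwo.add_self_eq_zero]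
  have hGt : Gᵀ = G := by ext i j; fin_cases i <;> fin_cases j <;> rfl
  have hGit : Giᵀ = Gi := by ext i j; fin_cases i <;> fin_cases j <;> rfl
  have hT : ∀ a, (M a)ᵀ = G * M a * Gi := fun a => by
    rw [hsym, mul_assoc, hGG, mul_one]
  have hG1 : ∀ X, G * (Gi * X) = X := fun X => by rw [← mul_assoc, hGG, one_mul]
  have hG2 : ∀ X, Gi * (G * X) = X := fun X => by rw [← mul_assoc, hGG', one_mul]
  have h2 : ∀ X : Matrix (Fin 2) (Fin 2) E, X + X = 0 := fun X => by
    ext i j; exact CharTwo.add_self_eq_zero _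
  have hneg : ∀ X : Matrix (Fin 2) (Fin 2) E, -X = X := fun X => neg_eq_of_add_eq_zero_left (h2 X)
  let R : SL(2, F) → Matrix (Fin 2 ⊕ Fin 2) (Fin 2 ⊕ Fin 2) E := fun g =>
    Matrix.fromBlocks (M (g.1 0 0)) (M (g.1 0 1) * Gi) (G * M (g.1 1 0)) (G * M (g.1 1 1) * Gi)
  have hmem : ∀ g, R g ∈ Matrix.symplecticGroup (Fin 2) E := fun g => by
    have hd : g.1 0 1 * g.1 1 0 + g.1 0 0 * g.1 1 1 = 1 := by
      have h := Matrix.det_fin_two g.1
      rw [g.2, CharTwo.sub_eq_add, add_comm] at h
      exact h.symm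
    rw [SymplecticGroup.mem_iff, Matrix.J, hneg, Matrix.fromBlocks_transpose, Matrix.fromBlocks_multiply,
      Matrix.fromBlocks_multiply]
    simp only [Matrix.transpose_mul, hGt, hGit, hT, mul_assoc, hG1, hG2, mul_zero, mul_one, add_zero, zero_add]
    simp only [← mul_assoc, ← map_mul]
    simp only [mul_assoc, hGG', mul_one]
    congr 1
    · rw [mul_comm (g.1 0 1), h2]
    · rw [← map_add, hd, map_one]
    · rw [← mul_add, ← add_mul, ← map_add,
        show g.1 1 1 * g.1 0 0 + g.1 1 0 * g.1 0 1 = 1 by linear_combination hd, map_one, one_mul, hGG]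
    · rw [mul_comm (g.1 1 1), h2]
  refine ⟨{ toFun := fun g => ⟨R g, hmem g⟩, map_one' := Subtype.ext ?_, map_mul' := fun g h => Subtype.ext ?_ },
    fun g h e => ?_⟩
  · show R 1 = (1 : Matrix (Fin 2 ⊕ Fin 2) (Fin 2 ⊕ Fin 2) E)
    rw [← Matrix.fromBlocks_one]
    simp [R, hGG]
  · show R (g * h) = R g * R h
    simp only [R, show (g * h).1 = g.1 * h.1 from rfl, Matrix.mul_apply, Fin.sum_univ_two, map_add,
      map_mul, Matrix.fromBlocks_multiply, mul_assoc, add_mul, mul_add, hG2]
  · have e' : R g = R h := congrArg Subtype.val e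
    obtain ⟨e1, e2, e3, e4⟩ := Matrix.fromBlocks_inj.1 e'
    have hcl : ∀ X Y : Matrix (Fin 2) (Fin 2) E, X * Gi = Y * Gi → X = Y := fun X Y hXY => by
      simpa [mul_assoc, hGG'] using congrArg (· * G) hXY
    have hcr : ∀ X Y : Matrix (Fin 2) (Fin 2) E, G * X = G * Y → X = Y := fun X Y hXY => by
      simpa [← mul_assoc, hGG'] using congrArg (Gi * ·) hXY
    refine Subtype.ext ?_
    ext i j
    fin_cases i <;> fin_cases j
    · exact hM e1
    · exact hM (hcl _ _ e2)
    · exact hM (hcr _ _ e3)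
    · exact hM (hcr _ _ (hcl _ _ e4))

/-- `Sp(4)` in `SL(4)` in characteristic two -/
theorem exists_hom_sl4 [CharP E 2] :
    ∃ f : Matrix.symplecticGroup (Fin 2) E →* SL(4, E), Function.Injective f := by
  have hdet : ∀ A ∈ Matrix.symplecticGroup (Fin 2) E, A.det = 1 := fun A hA => by
    have h := congrArg Matrix.det (SymplecticGroup.mem_iff.1 hA)
    rw [Matrix.det_mul, Matrix.det_mul, Matrix.det_transpose] at h
    have hJ : (Matrix.J (Fin 2) E).det ≠ 0 := (Matrix.isUnit_det_J (Fin 2) E).ne_zero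
    have h1 : A.det * A.det = 1 := by
      refine mul_left_cancel₀ hJ ?_
      linear_combination h
    have h6 : (A.det + 1) ^ 2 = 0 := by
      linear_combination h1 + (A.det + 1) * CharTwo.two_eq_zero (R := E)
    exact CharTwo.add_eq_zero.1 ((pow_eq_zero_iff (by norm_num)).1 h6)
  refine ⟨MonoidHom.mk' (fun A => ⟨Matrix.reindex finSumFinEquiv finSumFinEquiv A.1, by
    rw [Matrix.det_reindex_self]; exact hdet _ A.2⟩) fun A B => Subtype.ext ?_, fun A B e => ?_⟩
  · exact (Matrix.submatrix_mul_equiv A.1 B.1 _ _ _).symm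
  · exact Subtype.ext ((Matrix.reindex finSumFinEquiv finSumFinEquiv).injective (congrArg Subtype.val e))

/-- `Sp(4)` in `Sp(6)` in characteristic two -/
theorem exists_hom_sp6 [CharP E 2] :
    ∃ f : Matrix.symplecticGroup (Fin 2) E →* Matrix.symplecticGroup (Fin 3) E, Function.Injective f := by
  set e : (Fin 2 ⊕ Fin 2) ⊕ (Fin 1 ⊕ Fin 1) ≃ Fin 3 ⊕ Fin 3 :=
    (Equiv.sumSumSumComm (Fin 2) (Fin 2) (Fin 1) (Fin 1)).trans (finSumFinEquiv.sumCongr finSumFinEquiv)
  have hJ : (Matrix.fromBlocks (Matrix.J (Fin 2) E) 0 0 (Matrix.J (Fin 1) E)).submatrix e.symm e.symm =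
      Matrix.J (Fin 3) E := by
    ext i j
    rcases i with i | i <;> rcases j with j | j <;> fin_cases i <;> fin_cases j <;>
      simp [e, Matrix.J, finSumFinEquiv, Fin.addCases, Equiv.sumSumSumComm]
  let R : Matrix.symplecticGroup (Fin 2) E → Matrix (Fin 3 ⊕ Fin 3) (Fin 3 ⊕ Fin 3) E := fun A =>
    (Matrix.fromBlocks A.1 0 0 1).submatrix e.symm e.symm
  have hmem : ∀ A, R A ∈ Matrix.symplecticGroup (Fin 3) E := fun A => by
    rw [SymplecticGroup.mem_iff, ← hJ, Matrix.transpose_submatrix, Matrix.submatrix_mul_equiv,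
      Matrix.submatrix_mul_equiv, Matrix.fromBlocks_transpose, Matrix.fromBlocks_multiply,
      Matrix.fromBlocks_multiply]
    simp [SymplecticGroup.mem_iff.1 A.2]
  refine ⟨{ toFun := fun A => ⟨R A, hmem A⟩, map_one' := Subtype.ext ?_, map_mul' := fun A B => Subtype.ext ?_ },
    fun A B h => ?_⟩
  · show R 1 = (1 : Matrix (Fin 3 ⊕ Fin 3) (Fin 3 ⊕ Fin 3) E)
    simp [R, Matrix.fromBlocks_one]
  · show R (A * B) = R A * R B
    simp only [R, Matrix.submatrix_mul_equiv, Matrix.fromBlocks_multiply]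
    simp
  · have h' : R A = R B := congrArg Subtype.val h
    refine Subtype.ext (Matrix.ext fun i j => ?_)
    simpa [R] using congrFun (congrFun h' (e (Sum.inl i))) (e (Sum.inl j))

/-- `SL(2, 64)` in `SU(4, 8)` -/
theorem exists_hom_su4 (h8 : Fintype.card E = 8) (h64 : Fintype.card F = 64) :
    ∃ f : SL(2, F) →* Cfsg.SU 4 F 8, Function.Injective f := by
  haveI := charP_two_of_card_pow (F := F) (n := 6) (h64.trans (by norm_num))
  obtain ⟨-, θ, -, -, -, hθ, -, -, -⟩ := exists_coords h8 h64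
  have h2 : (2 : F) = 0 := CharTwo.two_eq_zero
  have hpow : ∀ x y : F, (x + y) ^ 8 = x ^ 8 + y ^ 8 := fun x y => add_pow_char_pow x y 2 3
  have hinv : ∀ x : F, (x ^ 8) ^ 8 = x := fun x => by
    rw [← pow_mul, show 8 * 8 = Fintype.card F by rw [h64], FiniteField.pow_card]
  set σ : F →+* F := iterateFrobenius F 2 3
  have hσ : ∀ x, σ x = x ^ 8 := fun x => rfl
  set P : Matrix (Fin 4) (Fin 4) F := !![1, 0, θ, 0; 1, 0, θ + 1, 0; 0, 1, 0, θ; 0, 1, 0, θ + 1]
  set Q : Matrix (Fin 4) (Fin 4) F := !![θ + 1, θ, 0, 0; 0, 0, θ + 1, θ; 1, 1, 0, 0; 0, 0, 1, 1]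
  have hQP : Q * P = 1 := by
    ext i j
    fin_cases i <;> fin_cases j <;> simp [P, Q, Matrix.mul_apply, Fin.sum_univ_four] <;>
      ring_nf <;> simp [h2]
  have hPQ : P * Q = 1 := by
    exact mul_eq_one_comm.1 hQP
  let X : SL(2, F) → Matrix (Fin 4) (Fin 4) F := fun g =>
    !![g.1 0 0, g.1 0 1, 0, 0; g.1 1 0, g.1 1 1, 0, 0;
       0, 0, σ (g.1 1 1), σ (g.1 1 0); 0, 0, σ (g.1 0 1), σ (g.1 0 0)]
  set H : Matrix (Fin 4) (Fin 4) F := !![0, 0, 1, 0; 0, 0, 0, 1; 1, 0, 0, 0; 0, 1, 0, 0]
  have hPH : Pᵀ * P.map σ = H := by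
    ext i j
    fin_cases i <;> fin_cases j <;>
      simp [P, H, hσ, hpow, Matrix.mul_apply, Fin.sum_univ_four, CharTwo.add_self_eq_zero] <;>
      first | linear_combination (norm := (ring_nf; simp [h2]; done)) hθ
            | linear_combination (norm := (ring_nf; simp [h2]; done)) (0 : F) * hθ
  have hX : ∀ g, (X g)ᵀ * H * (X g).map σ = H := fun g => by
    have hd := Matrix.det_fin_two g.1
    rw [g.2, CharTwo.sub_eq_add] at hd
    have hd' := congrArg σ hd
    simp only [map_add, map_mul, map_one] at hd'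
    have hσσ : ∀ x, σ (σ x) = x := fun x => by rw [hσ, hσ, hinv]
    ext i j
    fin_cases i <;> fin_cases j <;>
      simp [X, H, hσσ, Matrix.mul_apply, Fin.sum_univ_four] <;>
      first | linear_combination (norm := (ring_nf; simp [h2]; done)) (0 : F) * hd
            | linear_combination (norm := (ring_nf; simp [h2]; done)) hd
            | linear_combination (norm := (ring_nf; simp [h2]; done)) hd'
  let Y : SL(2, F) → Matrix (Fin 4) (Fin 4) F := fun g => P * X g * Q
  have hY : ∀ g, (Y g)ᵀ * (Y g).map σ = 1 := fun g => by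
    have e1 : (Y g)ᵀ * (Y g).map σ =
        Qᵀ * ((X g)ᵀ * (Pᵀ * P.map σ) * (X g).map σ) * Q.map σ := by
      simp only [Y, Matrix.transpose_mul, Matrix.map_mul, mul_assoc]
    have e2 : Qᵀ * (Pᵀ * P.map σ) * Q.map σ = (P * Q)ᵀ * (P * Q).map σ := by
      simp only [Matrix.transpose_mul, Matrix.map_mul, mul_assoc]
    rw [e1, hPH, hX, ← hPH, e2, hPQ, Matrix.transpose_one, one_mul,
      Matrix.map_one _ (map_zero σ) (map_one σ)]
  have hdet : ∀ g, (Y g).det = 1 := fun g => by
    have hd := Matrix.det_fin_two g.1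
    rw [g.2] at hd
    simp only [Y]
    rw [Matrix.det_mul, Matrix.det_mul, mul_comm P.det, mul_assoc, ← Matrix.det_mul, hPQ, Matrix.det_one,
      mul_one]
    have hd' := congrArg σ hd
    simp only [map_sub, map_mul, map_one] at hd'
    have e : X g = (Matrix.fromBlocks g.1 0 0 !![σ (g.1 1 1), σ (g.1 1 0); σ (g.1 0 1), σ (g.1 0 0)]).submatrix
        (finSumFinEquiv (m := 2) (n := 2)).symm (finSumFinEquiv (m := 2) (n := 2)).symm := by
      ext i j
      fin_cases i <;> fin_cases j <;> simp [X, finSumFinEquiv, Fin.addCases] <;> rfl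
    rw [e, Matrix.det_submatrix_equiv_self, Matrix.det_fromBlocks_zero₂₁, g.2, one_mul, Matrix.det_fin_two]
    simp
    linear_combination hd'.symm
  have hmul : ∀ g h, Y (g * h) = Y g * Y h := fun g h => by
    have e : X (g * h) = X g * X h := by
      ext i j
      fin_cases i <;> fin_cases j <;>
        simp [X, show (g * h).1 = g.1 * h.1 from rfl, Matrix.mul_apply, Fin.sum_univ_two, Fin.sum_univ_four,
          map_add, map_mul] <;> ring
    simp only [Y, e]
    rw [show P * X g * Q * (P * X h * Q) = P * X g * (Q * P) * X h * Q by simp only [mul_assoc], hQP, mul_one,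
      ← mul_assoc]
  let S : SL(2, F) →* SL(4, F) := MonoidHom.mk' (fun g => ⟨Y g, hdet g⟩) fun g h => Subtype.ext (hmul g h)
  have hS : ∀ g, S g ∈ Cfsg.SU 4 F 8 := fun g u w => by
    have e : ∀ a b : Fin 4 → F, Cfsg.hermForm 4 F 8 a b = a ⬝ᵥ (σ ∘ b) := fun a b => rfl
    have e2 : σ ∘ (Y g *ᵥ w) = (Y g).map σ *ᵥ (σ ∘ w) := funext fun i => σ.map_mulVec (Y g) w i
    show Cfsg.hermForm 4 F 8 (Y g *ᵥ u) (Y g *ᵥ w) = _
    rw [e, e, e2, Matrix.dotProduct_mulVec, ← Matrix.mulVec_transpose, Matrix.mulVec_mulVec]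
    rw [show ((Y g).map σ)ᵀ * Y g = ((Y g)ᵀ * (Y g).map σ)ᵀ by
      rw [Matrix.transpose_mul, Matrix.transpose_transpose], hY, Matrix.transpose_one, Matrix.one_mulVec]
  refine ⟨S.codRestrict _ hS, fun g h e => ?_⟩
  have e1 : Y g = Y h := congrArg Subtype.val (congrArg Subtype.val e)
  have e2 := congrArg (fun M => Q * M * P) e1
  simp only [Y, show ∀ g, Q * (P * X g * Q) * P = (Q * P) * X g * (Q * P) from fun g => by
    simp only [mul_assoc], hQP, one_mul, mul_one] at e2
  refine Subtype.ext ?_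
  ext i j
  fin_cases i <;> fin_cases j
  · exact congrFun (congrFun e2 0) 0
  · exact congrFun (congrFun e2 0) 1
  · exact congrFun (congrFun e2 1) 0
  · exact congrFun (congrFun e2 1) 1

end CfsgLib.Lie.SixtyFiveE7
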