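import Cfsg.Agent.Lib.Lie.Chev.CoxTorus.E7.Torus

/-!
# A Frobenius frame of Coxeter type E₆ inside E₇

An element over the algebraic closure that the Frobenius map twists by a monomial element over the
Coxeter word of the E₆ subdiagram, and descent of fixed elements to the finite group.
-/

set_option autoImplicit false
set_option maxRecDepth 100000

namespace CfsgLib.Lie.SixtyFiveE7

open Cfsg.Lie CfsgLib.Lie.Chev CfsgLib.Lie.CoxTorus CfsgLib.Lie.CoxTorusE7 CfsgLib.Lie.CoxTorusE6
open CfsgLib.Lie.EmbPairs CfsgLib.Lie.Homocyclic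
open scoped MatrixGroups

/-- the permutation of the frame -/
noncomputable def wCox : Equiv.Perm (Fin chevE7.nroots) := cE7.G.pw (word7 coxW)

theorem wCox_val (r : Fin chevE7.nroots) : (wCox r).val = wordF fastE7 coxW r.val := pw7_val coxW_lt r

theorem wCox_negr (r : Fin chevE7.nroots) : wCox (cE7.G.negr r) = cE7.G.negr (wCox r) :=
  cE7.G.pw_negr _ _

theorem wCox_mem : wCox ∈ cE7.G.Wg := cE7.G.pw_mem _

theorem frame_aux {K : Type*} [Field K] [IsAlgClosed K] (τ : K →+* K) {c₆ : GL chevE6.Idx K}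
    (hc₆ : c₆ ∈ chevE6.group K)
    (hmon : c₆⁻¹ * fmap chevE6 τ c₆ ∈ chevE6.monomialSubgroup K)
    (hperm : cE6.G.NPerm (c₆⁻¹ * fmap chevE6 τ c₆) cox) :
    ∃ c ∈ chevE7.group K, c⁻¹ * fmap chevE7 τ c ∈ chevE7.monomialSubgroup K ∧
      cE7.G.NPerm (c⁻¹ * fmap chevE7 τ c) wCox := by
  have hP := hasPair_tab (by simp) cE6 (D := chevE6)
  obtain ⟨c₇, hc₇⟩ := pairs_lift cE6 cE7 embSixSeven_ok hc₆
  have hm₁ := pairs_twist cE6 cE7 embSixSeven_ok τ hc₇
  have hd := cox_diag hmon hperm
  rw [cE6.G.diagonal_eq_range] at hd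
  obtain ⟨d, hd⟩ := hd
  have hm₂ := pairs_monomial cE6 cE7 embSixSeven_ok hP (wordOf coxW) d hd
  obtain ⟨κ, -, hκ, -⟩ := pairs_ext cE6 cE7 embSixSeven_ok hP hm₂ hm₁
  have hwl : (wordOf coxW).map (up embSixSeven_ok) = word7 coxW := by
    refine List.map_injective_iff.2 Fin.val_injective ?_
    rw [word7_val _ coxW_lt, List.map_map]
    exact (List.map_congr_left fun x _ => rfl).trans (wordOf_val coxW rfl)
  rw [hwl] at hκ
  have hdiag : ∀ a : Fin chevE7.rank → Kˣ, cE7.G.torθ a ∈ chevE7.diagonalSubgroup K := fun a =>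
    (cE7.G.diagonal_eq_range (K := K)).symm ▸ MonoidHom.mem_range.2 ⟨a, rfl⟩
  refine ⟨c₇, pairs_snd_mem cE6 cE7 embSixSeven_ok hc₇, hκ ▸ mul_mem (mul_mem
    (cE7.G.H_le_monomial (hdiag _)) (cE7.G.nw_mem_monomial _)) (cE7.G.H_le_monomial (hdiag _)), ?_⟩
  have h := Good.NPerm.mul cE7.G (Good.NPerm.mul cE7.G (cE7.G.nPerm_H (hdiag (pad chevE6 chevE7 d)))
    (cE7.G.nPerm_nw (K := K) (word7 coxW))) (cE7.G.nPerm_H (hdiag (pad chevE6 chevE7 κ)))
  rw [one_mul, mul_one, ← hκ] at h
  exact h

/-- the Frobenius map of the algebraic closure -/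
noncomputable abbrev frob (F : Type*) [Field F] [Fintype F] : AlgebraicClosure F →+* AlgebraicClosure F :=
  (FiniteField.frobeniusAlgHom F (AlgebraicClosure F)).toRingHom

variable {F : Type*} [Field F] [Fintype F]

theorem exists_frame :
    ∃ c ∈ chevE7.group (AlgebraicClosure F),
      c⁻¹ * fmap chevE7 (frob F) c ∈ chevE7.monomialSubgroup (AlgebraicClosure F) ∧
        cE7.G.NPerm (c⁻¹ * fmap chevE7 (frob F) c) wCox := by
  obtain ⟨c₆, hc₆, hmon, hperm⟩ := lang_six (F := F)
  exact frame_aux _ hc₆ hmon hperm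

theorem frob_pow (a : AlgebraicClosure F) : frob F a = a ^ Fintype.card F := rfl

theorem frob_comp : (frob F).comp (algebraMap F (AlgebraicClosure F)) = algebraMap F (AlgebraicClosure F) :=
  RingHom.ext fun a => (FiniteField.frobeniusAlgHom F (AlgebraicClosure F)).commutes a

theorem frob_fixed {a : AlgebraicClosure F} (ha : frob F a = a) :
    ∃ b, algebraMap F (AlgebraicClosure F) b = a := by
  by_contra hne
  push Not at hne
  set q := Fintype.card F
  have h0 : (Polynomial.X ^ q - Polynomial.X : Polynomial (AlgebraicClosure F)) = 0 := by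
    refine Polynomial.eq_zero_of_natDegree_lt_card_of_eval_eq_zero _
      (f := fun o : Option F => o.elim a (algebraMap F (AlgebraicClosure F))) ?_ (fun o => ?_) ?_
    · rintro (_ | x) (_ | y) h
      · rfl
      · exact absurd h.symm (hne y)
      · exact absurd h (hne x)
      · exact congrArg some ((algebraMap F (AlgebraicClosure F)).injective h)
    · cases o with
      | none =>
        have : a ^ q = a := ha
        simp [this]
      | some x => simp [← map_pow, FiniteField.pow_card, q]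
    · rw [FiniteField.X_pow_card_sub_X_natDegree_eq _ Fintype.one_lt_card, Fintype.card_option]
      omega
  exact FiniteField.X_pow_card_sub_X_ne_zero _ Fintype.one_lt_card h0

/-- a fixed element of the group over the closure comes from the finite group -/
theorem descend (h2 : Fintype.card F = 2) {y : GL chevE7.Idx (AlgebraicClosure F)}
    (hy : y ∈ chevE7.group (AlgebraicClosure F)) (hfix : fmap chevE7 (frob F) y = y) :
    ∃ g : ↥(chevE7.group F), fmap chevE7 (algebraMap F (AlgebraicClosure F)) g.1 = y := by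
  have hyi : fmap chevE7 (frob F) y⁻¹ = y⁻¹ := by rw [map_inv, hfix]
  have ent : ∀ y' : GL chevE7.Idx (AlgebraicClosure F), fmap chevE7 (frob F) y' = y' →
      ∃ M : Matrix chevE7.Idx chevE7.Idx F, M.map (algebraMap F (AlgebraicClosure F)) = (y' : Matrix _ _ _) :=
    fun y' h => by
    have key : ∀ i j, frob F ((y' : Matrix chevE7.Idx chevE7.Idx (AlgebraicClosure F)) i j) =
        (y' : Matrix chevE7.Idx chevE7.Idx (AlgebraicClosure F)) i j := fun i j =>
      congrFun (congrFun (congrArg (fun a : GL chevE7.Idx (AlgebraicClosure F) =>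
        (a : Matrix chevE7.Idx chevE7.Idx (AlgebraicClosure F))) h) i) j
    choose M hM using fun i j => frob_fixed (F := F) (key i j)
    exact ⟨Matrix.of M, Matrix.ext hM⟩
  obtain ⟨M, hM⟩ := ent y hfix
  obtain ⟨M', hM'⟩ := ent y⁻¹ hyi
  set ι := algebraMap F (AlgebraicClosure F)
  have e : ∀ A B : Matrix chevE7.Idx chevE7.Idx F, A.map ι * B.map ι = 1 → A * B = 1 :=
    fun A B h => Matrix.map_injective ι.injective (by
      show (A * B).map ι = (1 : Matrix chevE7.Idx chevE7.Idx F).map ι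
      rw [Matrix.map_mul, h, Matrix.map_one _ (map_zero ι) (map_one ι)])
  set g : GL chevE7.Idx F :=
    ⟨M, M', e _ _ (by rw [hM, hM', y.mul_inv]), e _ _ (by rw [hM, hM', y.inv_mul])⟩
  have hg : fmap chevE7 ι g = y := Units.ext hM
  have hgF : g ∈ fixedGrp chevE7 ι := by
    show fmap chevE7 ι g ∈ chevE7.group _
    rw [hg]; exact hy
  have h1 := relIndex_le cE7 (T := kerE7) kerE7_ok (frob F) ι frob_comp (fun a ha => frob_fixed ha)
    (A := fixedGrp chevE7 ι) le_rfl
  rw [show kerE7.d = 2 from rfl, show kerE7.k = 1 from rfl, pow_one, h2] at h1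
  have h3 : (chevE7.group F).relIndex (fixedGrp chevE7 ι) ≠ 0 := Subgroup.index_ne_zero_of_finite
  have h4 : fixedGrp chevE7 ι ≤ chevE7.group F := Subgroup.relIndex_eq_one.1 (by norm_num at h1; omega)
  exact ⟨⟨g, h4 hgF⟩, hg⟩

end CfsgLib.Lie.SixtyFiveE7
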