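import Cfsg.Agent.Lib.Lie.Chev.CoxTorus.E7.SixtyFive.Levi
import Cfsg.Agent.Lib.Lie.Chev.CoxTorus.E7.SixtyFive.Frame
import Cfsg.Agent.Lib.Lie.Chev.CoxE6Torus.Twist
import Mathlib.FieldTheory.IsAlgClosed.Basic

/-!
# The centraliser of an element of order 13 has no element of order five

Over the algebraic closure of the field with two elements: an element of order five that commutes with
the eigenvector modulo 13 and that is fixed by the twisted Frobenius map is trivial.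
-/

set_option autoImplicit false
set_option maxRecDepth 100000

namespace CfsgLib.Lie.SixtyFiveE7

open Cfsg.Lie CfsgLib.Lie.Chev CfsgLib.Lie.CoxTorus CfsgLib.Lie.CoxTorusE7 CfsgLib.Lie.CoxTorusE6
open CfsgLib.Lie.SL2Rel CfsgLib.Lie.Homocyclic
open scoped MatrixGroups Matrix

variable {K : Type*} [Field K]

theorem tor_diag [IsAlgClosed K] (u : Fin chevE7.rank → Kˣ) :
    cE7.G.tor u ∈ chevE7.diagonalSubgroup K := by
  obtain ⟨c', hc'⟩ := tor_mem7 u
  rw [← hc', cE7.G.diagonal_eq_range]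
  exact MonoidHom.mem_range.2 ⟨c', rfl⟩

theorem level_root {γ : Kˣ} (hγ : IsPrimitiveRoot γ 13) (s : Fin chevE7.nroots)
    (h : cE7.G.chi (fun k => γ ^ zA k.val) (cE7.G.rho s) = 1) :
    ∃ i, s = rt i ∨ s = cE7.G.negr (rt i) := by
  rw [chi_root, hγ.zpow_eq_one_iff_dvd] at h
  obtain ⟨i, hi | hi⟩ := level_zero ⟨s.val, nroots126 ▸ s.isLt⟩ (Int.emod_eq_zero_of_dvd h)
  · exact ⟨i, Or.inl (Fin.ext hi)⟩
  · exact ⟨i, Or.inr (Fin.ext (hi.trans (negs7 (rt i))))⟩

theorem mem_levU {γ : Kˣ} (hγ : IsPrimitiveRoot γ 13) {u : GL chevE7.Idx K}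
    (hu : u ∈ chevE7.posUnipotent K)
    (hc : cE7.G.tor (fun k => γ ^ zA k.val) * u = u * cE7.G.tor (fun k => γ ^ zA k.val)) :
    u ∈ levU K := by
  set v : Fin chevE7.rank → Kˣ := fun k => γ ^ zA k.val with hv
  rw [cE7.G.posUnipotent_eq] at hu
  obtain ⟨t, rfl⟩ := cE7.exists_uprod chevE7.nroots 0 (Nat.zero_add _) u hu
  have e : cE7.G.tor v * cE7.uprod 0 t * (cE7.G.tor v)⁻¹ =
      cE7.uprod 0 fun r => (cE7.G.chi v (cE7.G.rho r) : K) * t r := by
    rw [← MulAut.conj_apply, Full.uprod, Full.uprod, map_list_prod, List.map_map]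
    congr 1
    exact List.map_congr_left fun r _ => cE7.G.tor_conj_xu v r (t r)
  rw [hc, mul_inv_cancel_right] at e
  have ht := cE7.uprod_inj chevE7.nroots 0 (Nat.zero_add _) _ _ e
  rw [Full.uprod]
  refine list_prod_mem fun x hx => ?_
  obtain ⟨r, hr, rfl⟩ := List.mem_map.1 hx
  simp only [List.mem_filter, decide_eq_true_eq] at hr
  by_cases h0 : t r = 0
  · rw [h0, cE7.G.xu_zero]; exact one_mem _
  · have h1 := ht r hr.2.1 hr.2.2
    have hchi : cE7.G.chi v (cE7.G.rho r) = 1 :=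
      Units.ext (mul_right_cancel₀ h0 ((one_mul _).trans h1)).symm
    obtain ⟨i, rfl | rfl⟩ := level_root hγ r hchi
    · exact Subgroup.subset_closure ⟨i, t _, rfl⟩
    · exact absurd hr.2.2 (fun h => (cE7.G.negr_pos_iff (rt i)).1 h (rt_pos i))

theorem wCox_rt (i : Fin 3) : wCox (rt i) = rt (i + 1) := Fin.ext ((wCox_val _).trans (cycleW i))

theorem wCox_three (i : Fin 3) : wCox (wCox (wCox (rt i))) = rt i := by
  rw [wCox_rt, wCox_rt, wCox_rt]
  congr 1
  fin_cases i <;> rfl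

theorem wm_vecMul_root {π : Equiv.Perm (Fin chevE7.nroots)} (hπ : π ∈ cE7.G.Wg) {r s u : Fin chevE7.nroots}
    (h : cE7.G.rho u = cE7.G.rho r + cE7.G.rho s) :
    cE7.G.rho (π u) = cE7.G.rho (π r) + cE7.G.rho (π s) := by
  rw [rho_perm cE7 hπ, rho_perm cE7 hπ, rho_perm cE7 hπ, h, Matrix.add_vecMul]

/-- an element permuting roots that keeps the two congruences fixes the fundamental roots -/
theorem perm_eq_one {π : Equiv.Perm (Fin chevE7.nroots)} (hπ : π ∈ cE7.G.Wg)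
    (h13 : ∀ s, (13 : ℤ) ∣ ∑ k : Fin 7, (rc7 (π s).val k.val - rc7 s.val k.val) * zA k.val)
    (h7 : ∀ s, ∀ i : Fin 3, (7 : ℤ) ∣ ∑ k : Fin 7, (rc7 (π s).val k.val - rc7 s.val k.val) * pc i.val k.val) :
    π = 1 := by
  have hj : ∀ j : Fin chevE7.rank, π (cE7.G.simp' j) = cE7.G.simp' j ∨
      (j.val = 1 ∧ (π (cE7.G.simp' j)).val = 6) := by
    intro j
    have hs := simp7_val j
    rcases cand ⟨(π (cE7.G.simp' j)).val, nroots126 ▸ (π _).isLt⟩ ⟨j.val, rank7 ▸ j.isLt⟩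
      (Int.emod_eq_zero_of_dvd (by simpa only [hs] using h13 (cE7.G.simp' j)))
      (fun i => Int.emod_eq_zero_of_dvd (by simpa only [hs] using h7 (cE7.G.simp' j) i)) with h | h
    · exact Or.inl (Fin.ext (h.trans hs.symm))
    · exact Or.inr h
  set j1 : Fin chevE7.rank := ⟨1, rank7.symm ▸ by norm_num⟩
  set j3 : Fin chevE7.rank := ⟨3, rank7.symm ▸ by norm_num⟩
  have h3 : π (cE7.G.simp' j3) = cE7.G.simp' j3 := (hj j3).resolve_right fun h => by simp [j3] at h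
  have h1 : π (cE7.G.simp' j1) = cE7.G.simp' j1 := by
    refine (hj j1).resolve_right fun h => ?_
    set s79 : Fin chevE7.nroots := ⟨79, nroots126.symm ▸ by norm_num⟩
    have h79 : cE7.G.rho s79 = cE7.G.rho (cE7.G.simp' j1) + cE7.G.rho (cE7.G.simp' j3) := by
      funext k
      rw [Pi.add_apply, rho7, rho7, rho7, simp7_val, simp7_val]
      exact root79 ⟨k.val, rank7 ▸ k.isLt⟩
    have h2 := wm_vecMul_root hπ h79
    refine no_root_six ⟨(π s79).val, nroots126 ▸ (π _).isLt⟩ fun k => ?_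
    have h4 := congrFun h2 ⟨k.val, rank7.symm ▸ k.isLt⟩
    rw [Pi.add_apply, rho7, rho7, rho7, h.2, h3, simp7_val] at h4
    exact h4
  refine eq_one_of_wm cE7 hπ ?_
  rw [← wm_one cE7]
  ext j k
  simp only [wm, Matrix.of_apply, Equiv.Perm.one_apply]
  rcases hj j with h | ⟨h, -⟩
  · rw [h]
  · rw [show j = j1 from Fin.ext h, h1]

variable [IsAlgClosed K] [CharP K 2]

/-- an element of order five fixed by the twisted map in the centraliser of the eigenvector is trivial -/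
theorem core (σ : K →+* K) (hσ : ∀ a, σ a = a ^ 2) {m : GL chevE7.Idx K}
    (hm : cE7.G.NPerm m wCox) {ζ : Kˣ} (hζ : IsPrimitiveRoot ζ 91) {Y : GL chevE7.Idx K}
    (hY : Y ∈ chevE7.group K)
    (hv : Y * cE7.G.tor (fun k => (ζ ^ 7) ^ zA k.val) = cE7.G.tor (fun k => (ζ ^ 7) ^ zA k.val) * Y)
    (hT : m * fmap chevE7 σ Y * m⁻¹ = Y) (h5 : Y ^ 5 = 1) : Y = 1 := by
  classical
  set γ := ζ ^ 7 with hγdef
  set η := ζ ^ 13 with hηdef
  have hγ : IsPrimitiveRoot γ 13 := hζ.pow (by norm_num) (by norm_num)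
  have hη : IsPrimitiveRoot η 7 := hζ.pow (by norm_num) (by norm_num)
  set v : Fin chevE7.rank → Kˣ := fun k => γ ^ zA k.val with hvdef
  -- the permutation of the three subgroups
  obtain ⟨w, hw, n, hn, π, hπ, u, hu, hYe, hnv, hvw, hvu⟩ := twist cE7 hY (tor_diag v) (tor_diag v) hv
  have hπW := mem_Wg_of_monomial cE7 hn hπ
  have hπn : ∀ s, π (cE7.G.negr s) = cE7.G.negr (π s) := fun s => by
    obtain ⟨l, rfl⟩ := cE7.G.exists_pw hπW
    exact cE7.G.pw_negr _ _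
  have hfi : ∀ i, ∃ i', π (rt i) = rt i' ∨ π (rt i) = cE7.G.negr (rt i') := fun i => by
    refine level_root hγ _ ?_
    rw [chi_of_conj cE7 hπ hnv, chi_root, hγ.zpow_eq_one_iff_dvd]
    have := level_zero ⟨rN i.val, rN_lt _⟩
    have e : (∑ k : Fin 7, rc7 (rN i.val) k.val * zA k.val) % 13 = 0 := by
      revert i; decide +kernel
    exact Int.dvd_of_emod_eq_zero e
  choose f hf using hfi
  have hsn : Sends n f := by
    intro i x
    refine Fam.mem_gens (P := fun x => ∃ y, n * phi i x * n⁻¹ = phi (f i) y) ?_ ?_ ?_ x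
    · rintro a b ⟨ya, ha⟩ ⟨yb, hb⟩
      exact ⟨ya * yb, by rw [map_mul, map_mul, ← ha, ← hb]; group⟩
    · intro t
      obtain ⟨c, hc⟩ := hπ (rt i)
      rw [phi_upper, hc]
      rcases hf i with h | h
      · exact ⟨Fam.upper ((c : K) * t), by rw [phi_upper, h]⟩
      · exact ⟨Fam.lower ((c : K) * t), by rw [phi_lower, h]⟩
    · obtain ⟨c, hc⟩ := hπ (rt i)
      obtain ⟨c', hc'⟩ := hπ (cE7.G.negr (rt i))
      rw [hπn] at hc'
      rw [wel_eq_two, map_mul, map_mul, phi_upper, phi_lower]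
      rcases hf i with h | h
      · refine ⟨Fam.upper ((c : K) * 1) * Fam.lower ((c' : K) * 1) * Fam.upper ((c : K) * 1), ?_⟩
        rw [map_mul, map_mul, phi_upper, phi_lower, ← h, ← hc, ← hc']
        group
      · refine ⟨Fam.lower ((c : K) * 1) * Fam.upper ((c' : K) * 1) * Fam.lower ((c : K) * 1), ?_⟩
        rw [map_mul, map_mul, phi_upper, phi_lower, ← h]
        rw [h, cE7.G.negr_negr] at hc'
        rw [← hc, ← hc']
        group
  have hsY : Sends Y (id ∘ f ∘ id) := by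
    rw [hYe, mul_assoc]
    exact (sends_levU (mem_levU hγ hw hvw)).mul (hsn.mul (sends_levU (mem_levU hγ hu hvu)))
  have hfid : id ∘ f ∘ id = id := hsY.eq_id h5
  rw [hfid] at hsY
  -- the twisted map
  let T : GL chevE7.Idx K →* GL chevE7.Idx K := (MulAut.conj m).toMonoidHom.comp (fmap chevE7 σ)
  have hTd : ∀ x, T x = m * fmap chevE7 σ x * m⁻¹ := fun x => by simp [T]
  have hTx : ∀ s : Fin chevE7.nroots, ∃ a : Kˣ, ∀ t : K,
      T (cE7.G.xu s t) = cE7.G.xu (wCox s) ((a : K) * t ^ 2) := fun s => by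
    obtain ⟨a, ha⟩ := hm s
    exact ⟨a, fun t => by rw [hTd, cE7.G.fmap_xu, hσ, ha]⟩
  have hT3 : ∀ s : Fin chevE7.nroots, wCox (wCox (wCox s)) = s → ∃ a : Kˣ, ∀ t : K,
      T (T (T (cE7.G.xu s t))) = cE7.G.xu s ((a : K) * t ^ 8) := fun s hs => by
    obtain ⟨a₁, h₁⟩ := hTx s
    obtain ⟨a₂, h₂⟩ := hTx (wCox s)
    obtain ⟨a₃, h₃⟩ := hTx (wCox (wCox s))
    refine ⟨a₃ * a₂ ^ 2 * a₁ ^ 4, fun t => ?_⟩
    rw [h₁, h₂, h₃, hs]
    congr 1
    push_cast
    ring
  have hYhd : ∀ i, Commute Y (cE7.G.hd (rt i) η) := fun i => by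
    obtain ⟨a, ha⟩ := hT3 (rt i) (wCox_three i)
    obtain ⟨b, hb⟩ := hT3 (cE7.G.negr (rt i)) (by rw [wCox_negr, wCox_negr, wCox_negr, wCox_three])
    rw [← phi_dg]
    refine commute_dg (phi i) (phi_injective i) (T.comp (T.comp T)) a b (fun t => ?_) (fun t => ?_)
      ?_ (fun g => ?_) h5 hη.pow_eq_one
    · rw [phi_upper, phi_upper]; exact ha t
    · rw [phi_lower, phi_lower]; exact hb t
    · show T (T (T Y)) = Y
      have : T Y = Y := (hTd Y).trans hT
      rw [this, this, this]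
    · obtain ⟨y, hy⟩ := hsY i g
      exact ⟨y, hy⟩
  -- the regular element
  set v' : Fin chevE7.rank → Kˣ := fun k => ζ ^ yA k.val with hv'def
  have hv'e : cE7.G.tor v' = cE7.G.tor v * (cE7.G.hd (rt 0) η * cE7.G.hd (rt 1) η * cE7.G.hd (rt 2) η) := by
    rw [hd_rt, hd_rt, hd_rt, ← map_mul, ← map_mul, ← map_mul]
    congr 1
    funext k
    simp only [hv'def, hvdef, Pi.mul_apply, hγdef, hηdef, ← zpow_natCast, ← zpow_mul, ← zpow_add, yA]
    congr 1
    push_cast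
    simp only [Fin.val_zero, Fin.val_one, Fin.val_two]
    ring
  have hcv' : Y * cE7.G.tor v' = cE7.G.tor v' * Y := by
    rw [hv'e]
    exact ((show Commute Y (cE7.G.tor v) from hv).mul_right
      (((hYhd 0).mul_right (hYhd 1)).mul_right (hYhd 2))).eq
  have hreg : Reg cE7 v' := fun s hs => by
    rw [hv'def, chi_root, hζ.zpow_eq_one_iff_dvd] at hs
    exact reg91 ⟨s.val, nroots126 ▸ s.isLt⟩ (Int.emod_eq_zero_of_dvd hs)
  obtain ⟨hYm, π', hπ'⟩ := twist_reg cE7 hY (tor_diag v') (tor_diag v') hreg hreg hcv'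
  have hdvd : ∀ (δ : Kˣ) (N : ℕ), IsPrimitiveRoot δ N → ∀ z : ℕ → ℤ,
      Y * cE7.G.tor (fun k => δ ^ z k.val) = cE7.G.tor (fun k => δ ^ z k.val) * Y → ∀ s,
      (N : ℤ) ∣ ∑ k : Fin 7, (rc7 (π' s).val k.val - rc7 s.val k.val) * z k.val := by
    intro δ N hδ z h s
    have e := chi_of_conj cE7 hπ' h s
    rw [chi_root, chi_root, ← mul_inv_eq_one, ← zpow_sub, hδ.zpow_eq_one_iff_dvd] at e
    simpa only [sub_mul, Finset.sum_sub_distrib] using e
  have hone : π' = 1 := perm_eq_one (mem_Wg_of_monomial cE7 hYm hπ')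
    (hdvd γ 13 hγ zA hv)
    (fun s i => hdvd η 7 hη (pc i.val) (by
      have := (hYhd i).eq
      rwa [hd_rt] at this) s)
  obtain ⟨c, hc⟩ := cE7.G.exists_tor (cE7.G.mem_H_of_nPerm_one hYm (hone ▸ hπ'))
  subst hc
  -- a torus element of order five
  have hc5 : c ^ 5 = 1 := tor_inj cE7 (by rw [map_pow, h5, map_one])
  haveI : NeZero ((5 : ℕ) : K) := ⟨by
    intro h
    have := (CharP.cast_eq_zero_iff K 2 5).1 h
    omega⟩
  obtain ⟨δ₀, hδ₀⟩ := HasEnoughRootsOfUnity.exists_primitiveRoot K 5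
  set δ : Kˣ := (hδ₀.isUnit (by norm_num)).unit
  have hδ : IsPrimitiveRoot δ 5 := IsPrimitiveRoot.coe_units_iff.1 hδ₀
  obtain ⟨z, hz⟩ := CfsgLib.Lie.CoxE6.exists_exponents hδ hc5
  have hconj : m * cE7.G.tor (c ^ 2) = cE7.G.tor c * m := by
    have e : fmap chevE7 σ (cE7.G.tor c) = cE7.G.tor (c ^ 2) := by
      rw [cE7.G.fmap_tor]
      exact congrArg _ (funext fun i => Units.ext (by simpa using hσ (c i : K)))
    rw [e] at hT
    conv_rhs => rw [← hT]
    group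
  set z' : ℕ → ℤ := fun k => if h : k < chevE7.rank then z ⟨k, h⟩ else 0
  have hcz : c = fun k => δ ^ z' k.val := funext fun k => by
    simp only [z', dif_pos k.isLt, Fin.eta, hz]
  have heq : ∀ a : Fin 7, (5 : ℤ) ∣ (∑ k : Fin 7, nW a.val k.val * z' k.val) - 2 * z' a.val := by
    intro a
    set j : Fin chevE7.rank := ⟨a.val, rank7.symm ▸ a.isLt⟩
    have e := chi_of_conj cE7 hm hconj (cE7.G.simp' j)
    rw [cE7.G.rho_simp (i := j), cE7.G.chi_single, hcz, chi_root, wCox_val, simp7_val, Pi.pow_apply,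
      ← zpow_natCast, ← zpow_mul, ← mul_inv_eq_one, ← zpow_sub, hδ.zpow_eq_one_iff_dvd] at e
    rw [mul_comm 2 (z' a.val)]
    exact e
  have hz0 : ∀ i : Fin 7, (5 : ℤ) ∣ z' i.val := by
    intro i
    have h1 : (5 : ℤ) ∣ ∑ a : Fin 7, y5 i.val a.val *
        ((∑ k : Fin 7, nW a.val k.val * z' k.val) - 2 * z' a.val) :=
      Finset.dvd_sum fun a _ => (heq a).mul_left _
    have h2 : (5 : ℤ) ∣ ∑ k : Fin 7, ((∑ a : Fin 7, y5 i.val a.val * (nW a.val k.val - if a = k then 2 else 0)) -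
        if i = k then 1 else 0) * z' k.val :=
      Finset.dvd_sum fun k _ => (Int.dvd_of_emod_eq_zero (y5_spec i k)).mul_right _
    have h3 := dvd_sub h1 h2
    refine h3.trans (dvd_of_eq ?_)
    simp only [sub_mul, mul_sub, Finset.sum_mul, Finset.mul_sum, Finset.sum_sub_distrib, ite_mul,
      zero_mul, one_mul, mul_ite, mul_zero, Finset.sum_ite_eq, Finset.mem_univ, if_true]
    rw [Finset.sum_comm (γ := Fin 7)]
    simp only [Finset.sum_ite_eq', Finset.mem_univ, if_true, mul_assoc, mul_left_comm _ (2 : ℤ)]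
    ring
  have hc1 : c = 1 := by
    rw [hcz]
    funext k
    rw [Pi.one_apply, hδ.zpow_eq_one_iff_dvd]
    exact hz0 ⟨k.val, rank7 ▸ k.isLt⟩
  rw [hc1, map_one]

end CfsgLib.Lie.SixtyFiveE7
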