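import Cfsg.Agent.Lib.Lie.Chev.CoxTorus.E7.Mats

/-!
# Tables for the elements of order 65 in type E₇ over two elements

The eigenvector of the twisting element modulo 13, the three orthogonal roots on which it vanishes,
and the congruences that make a combined character regular.
-/

set_option autoImplicit false
set_option maxRecDepth 100000

namespace CfsgLib.Lie.SixtyFiveE7

open Cfsg.Lie CfsgLib.Lie.Chev CfsgLib.Lie.CoxTorus CfsgLib.Lie.CoxTorusE7 CfsgLib.Lie.CoxTorusE6

/-- an entry of the matrix of the twisting element -/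
noncomputable def nW (j k : ℕ) : ℤ := rc7 (wordF fastE7 coxW (fastE7.simples.get j)) k

/-- the eigenvector modulo 13 -/
def zA (k : ℕ) : ℤ := ([10, 6, 7, 8, 3, 6, 1] : List ℤ).getD k 0

/-- the indices of the three roots -/
def rN (i : ℕ) : ℕ := ([89, 107, 114] : List ℕ).getD i 0

theorem rN_lt (i : ℕ) : rN i < 126 := by
  unfold rN
  rcases i with _ | _ | _ | i <;> simp

/-- the pairings of the three coroots with the fundamental roots -/
def pc (i k : ℕ) : ℤ :=
  (([[-1, 0, 0, 1, -1, 0, 1], [1, 0, -1, 0, 1, -1, 1], [0, 0, 1, -1, 0, 1, 0]] : List (List ℤ)).getD i []).getD k 0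

theorem pc_spec : ∀ i : Fin 3, ∀ l : Fin 7,
    (∑ j : Fin 7, (chevE7.coroot.getD (rN i.val) #[]).getD j.val 0 * a7 l.val j.val) = pc i.val l.val := by
  decide +kernel

theorem pc_self : ∀ i : Fin 3, (∑ k : Fin 7, rc7 (rN i.val) k.val * pc i.val k.val) = 2 := by
  decide +kernel

theorem eig13 : ∀ j : Fin 7, ((∑ k : Fin 7, nW j.val k.val * zA k.val) - 2 * zA j.val) % 13 = 0 := by
  decide +kernel

theorem cycleW : ∀ i : Fin 3, wordF fastE7 coxW (rN i.val) = rN (i + 1).val := by decide +kernel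

theorem level_zero : ∀ s : Fin 126, (∑ k : Fin 7, rc7 s.val k.val * zA k.val) % 13 = 0 →
    ∃ i : Fin 3, s.val = rN i.val ∨ s.val = fastE7.negs.get (rN i.val) := by
  decide +kernel

theorem rN_pos : ∀ i : Fin 3, (∀ k : Fin 7, 0 ≤ rc7 (rN i.val) k.val) := by decide +kernel

theorem rN_neg : ∀ i : Fin 3, ∃ k : Fin 7, rc7 (fastE7.negs.get (rN i.val)) k.val < 0 := by
  decide +kernel

theorem rN_inj : ∀ i i' : Fin 3, rN i.val = rN i'.val → i = i' := by decide +kernel

theorem no_comm3 : ∀ i i' : Fin 3, i ≠ i' → ∀ a ∈ [rN i.val, fastE7.negs.get (rN i.val)],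
    ∀ b ∈ [rN i'.val, fastE7.negs.get (rN i'.val)],
      b ≠ a ∧ b ≠ fastE7.negs.get a ∧ (commTermsF chevE7 fastE7 a b).length = 0 := by
  decide +kernel

/-- the exponents modulo 91 of the combined character -/
def yA (k : ℕ) : ℤ := 7 * zA k + 13 * (pc 0 k + pc 1 k + pc 2 k)

theorem reg91 : ∀ s : Fin 126, (∑ k : Fin 7, rc7 s.val k.val * yA k.val) % 91 ≠ 0 := by
  decide +kernel

theorem cand : ∀ s : Fin 126, ∀ j : Fin 7,
    (∑ k : Fin 7, (rc7 s.val k.val - rc7 (fastE7.simples.get j.val) k.val) * zA k.val) % 13 = 0 →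
    (∀ i : Fin 3, (∑ k : Fin 7,
      (rc7 s.val k.val - rc7 (fastE7.simples.get j.val) k.val) * pc i.val k.val) % 7 = 0) →
    s.val = fastE7.simples.get j.val ∨ (j.val = 1 ∧ s.val = 6) := by
  decide +kernel

theorem root79 : ∀ k : Fin 7,
    rc7 79 k.val = rc7 (fastE7.simples.get 1) k.val + rc7 (fastE7.simples.get 3) k.val := by
  decide +kernel

theorem no_root_six : ∀ s : Fin 126, ¬ ∀ k : Fin 7,
    rc7 s.val k.val = rc7 6 k.val + rc7 (fastE7.simples.get 3) k.val := by
  decide +kernel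

/-- a left inverse of the eigenvector equations modulo 5 -/
def y5 (i j : ℕ) : ℤ :=
  (([[4, 1, 4, 4, 1, 2, 0], [2, 2, 3, 1, 4, 3, 0], [4, 2, 3, 3, 2, 4, 0], [1, 2, 4, 0, 0, 0, 0],
    [2, 4, 3, 1, 0, 0, 0], [4, 3, 1, 2, 1, 0, 0], [2, 4, 3, 1, 3, 4, 4]] : List (List ℤ)).getD i []).getD j 0

theorem y5_spec : ∀ i k : Fin 7, ((∑ a : Fin 7, y5 i.val a.val * (nW a.val k.val - if a = k then 2 else 0)) -
    if i = k then 1 else 0) % 5 = 0 := by
  decide +kernel

end CfsgLib.Lie.SixtyFiveE7
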