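import Cfsg.Agent.Lib.Lie.Chev.CoxTorus.E7.SixtyFive.SLEight
import Mathlib.FieldTheory.Finite.GaloisField

/-!
# An element of order five normalising a twisted copy of `SL(2, K)`

In characteristic two, if a map sends the two root families to themselves through eighth powers, then
an element of order five that it fixes and that normalises the copy of `SL(2, K)` centralises the
elements of order seven of the diagonal.
-/

set_option autoImplicit false

namespace CfsgLib.Lie.SixtyFiveE7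

open Matrix CfsgLib.Lie.SL2Rel
open scoped MatrixGroups

variable {K : Type*} [Field K]

/-- a diagonal element -/
def dg (e : Kˣ) : SpecialLinearGroup (Fin 2) K :=
  ⟨!![(e : K), 0; 0, ((e⁻¹ : Kˣ) : K)], by simp [Matrix.det_fin_two]⟩

theorem dg_val (e : Kˣ) : (dg e).1 = !![(e : K), 0; 0, ((e⁻¹ : Kˣ) : K)] := rfl

variable [CharP K 2]

theorem add_pow_eight (x y : K) : (x + y) ^ 8 = x ^ 8 + y ^ 8 := add_pow_char_pow x y 2 3

/-- an element from its matrix -/
def mkSL {R : Type*} [Field R] (M : Matrix (Fin 2) (Fin 2) R) (h : M.det = 1) :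
    SpecialLinearGroup (Fin 2) R := ⟨M, h⟩

omit [CharP K 2] in
theorem mkSL_val {R : Type*} [Field R] (M : Matrix (Fin 2) (Fin 2) R) (h : M.det = 1) :
    (mkSL M h).1 = M := rfl

/-- the values of the twisted eighth power map -/
def twFun (a : Kˣ) (g : SpecialLinearGroup (Fin 2) K) : SpecialLinearGroup (Fin 2) K :=
  mkSL !![g.1 0 0 ^ 8, (a : K) * g.1 0 1 ^ 8; ((a⁻¹ : Kˣ) : K) * g.1 1 0 ^ 8, g.1 1 1 ^ 8] (by
    have h := Matrix.det_fin_two g.1
    rw [g.2, CharTwo.sub_eq_add] at h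
    have h8 := congrArg (· ^ 8) h
    simp only [one_pow, add_pow_eight, mul_pow] at h8
    rw [Matrix.det_fin_two]
    simp only [Matrix.of_apply, Matrix.cons_val', Matrix.cons_val_zero, Matrix.cons_val_one,
      Matrix.empty_val', Matrix.cons_val_fin_one, CharTwo.sub_eq_add]
    linear_combination -h8 + g.1 0 1 ^ 8 * g.1 1 0 ^ 8 * Units.mul_inv a)

theorem twFun_val (a : Kˣ) (g : SpecialLinearGroup (Fin 2) K) : (twFun a g).1 =
    !![g.1 0 0 ^ 8, (a : K) * g.1 0 1 ^ 8; ((a⁻¹ : Kˣ) : K) * g.1 1 0 ^ 8, g.1 1 1 ^ 8] := rfl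

/-- the twisted eighth power map -/
def tw (a : Kˣ) : SpecialLinearGroup (Fin 2) K →* SpecialLinearGroup (Fin 2) K :=
  MonoidHom.mk' (twFun a) fun g h => by
    have ha := Units.mul_inv a
    refine sl_ext ?_ ?_ ?_ ?_
    all_goals simp [twFun_val, val_mul', Matrix.mul_apply, Fin.sum_univ_two, add_pow_eight, mul_pow,
      -Units.val_inv_eq_inv_val]
    · linear_combination -(g.1 0 1 ^ 8 * h.1 1 0 ^ 8) * ha
    · ring
    · ring
    · linear_combination -(g.1 1 0 ^ 8 * h.1 0 1 ^ 8) * ha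

theorem tw_val (a : Kˣ) (g : SpecialLinearGroup (Fin 2) K) : (tw a g).1 =
    !![g.1 0 0 ^ 8, (a : K) * g.1 0 1 ^ 8; ((a⁻¹ : Kˣ) : K) * g.1 1 0 ^ 8, g.1 1 1 ^ 8] := rfl

/-- the Weyl element from the three root elements -/
theorem wel_eq_two : (Fam.wel : SpecialLinearGroup (Fin 2) K) =
    Fam.upper 1 * Fam.lower 1 * Fam.upper 1 := by
  refine sl_ext ?_ ?_ ?_ ?_ <;>
    simp [wel_val, upper_val, lower_val, val_mul', Matrix.mul_apply, Fin.sum_univ_two,
      CharTwo.add_self_eq_zero, CharTwo.neg_eq]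

variable {H : Type*} [Group H] (φ : SpecialLinearGroup (Fin 2) K →* H)

theorem twist_rel (hφ : Function.Injective φ) (Ψ : H →* H) (a b : Kˣ)
    (hu : ∀ t, Ψ (φ (Fam.upper t)) = φ (Fam.upper ((a : K) * t ^ 8)))
    (hl : ∀ t, Ψ (φ (Fam.lower t)) = φ (Fam.lower ((b : K) * t ^ 8))) :
    ∀ g, Ψ (φ g) = φ (tw a g) := by
  have hab : (a : K) * b = 1 := by
    have e : (Fam.upper 1 * Fam.lower 1 * Fam.upper 1 : SpecialLinearGroup (Fin 2) K) * Fam.upper 1 =
        Fam.lower 1 * (Fam.upper 1 * Fam.lower 1 * Fam.upper 1) := by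
      refine sl_ext ?_ ?_ ?_ ?_ <;>
        simp [upper_val, lower_val, val_mul', Matrix.mul_apply, Fin.sum_univ_two,
          CharTwo.add_self_eq_zero]
    have e2 := congrArg (fun g => Ψ (φ g)) e
    simp only [map_mul, hu, hl, one_pow, mul_one] at e2
    simp only [← map_mul] at e2
    have e3 := congrArg (fun g : SpecialLinearGroup (Fin 2) K => g.1 0 1) (hφ e2)
    simp [upper_val, lower_val, val_mul', Matrix.mul_apply, Fin.sum_univ_two] at e3
    linear_combination e3 - CharTwo.two_eq_zero (R := K)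
  have hb : (b : K) = ((a⁻¹ : Kˣ) : K) := by
    rw [← Units.mul_inv_eq_one, ← Units.val_mul, inv_inv, Units.val_mul, mul_comm]
    exact hab
  have hU : ∀ t : K, tw a (Fam.upper t) = Fam.upper ((a : K) * t ^ 8) := fun t => by
    refine sl_ext ?_ ?_ ?_ ?_ <;> simp [tw_val, upper_val]
  have hL : ∀ t : K, tw a (Fam.lower t) = Fam.lower ((b : K) * t ^ 8) := fun t => by
    refine sl_ext ?_ ?_ ?_ ?_ <;> simp [tw_val, lower_val, hb]
  intro g
  refine Fam.mem_gens (P := fun g => Ψ (φ g) = φ (tw a g)) (fun x y hx hy => ?_) (fun t => ?_) ?_ g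
  · simp only [map_mul, hx, hy]
  · rw [hu, hU]
  · rw [wel_eq_two]
    simp only [map_mul, hu, hl, hU, hL]

/-- the fixed points of the twisted eighth power map commute with a fixed normalising element of
order five -/
theorem commute_dg [IsAlgClosed K] (hφ : Function.Injective φ) (Ψ : H →* H) (a b : Kˣ)
    (hu : ∀ t, Ψ (φ (Fam.upper t)) = φ (Fam.upper ((a : K) * t ^ 8)))
    (hl : ∀ t, Ψ (φ (Fam.lower t)) = φ (Fam.lower ((b : K) * t ^ 8)))
    {Y : H} (hY : Ψ Y = Y) (hn : ∀ g, ∃ g', Y * φ g * Y⁻¹ = φ g') (h5 : Y ^ 5 = 1)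
    {η : Kˣ} (hη : η ^ 7 = 1) : Commute Y (φ (dg η)) := by
  classical
  have hrel := twist_rel φ hφ Ψ a b hu hl
  choose α hα using hn
  haveI : Fact (Nat.Prime 2) := ⟨Nat.prime_two⟩
  letI := ZMod.algebra K 2
  let j : GaloisField 2 3 →+* K := (IsAlgClosed.lift (R := ZMod 2) (M := K) (S := GaloisField 2 3)).toRingHom
  letI : Fintype (GaloisField 2 3) := Fintype.ofFinite _
  have h8 : Fintype.card (GaloisField 2 3) = 8 := by
    rw [Fintype.card_eq_nat_card, GaloisField.card 2 3 (by norm_num)]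
    norm_num
  have hj8 : ∀ x, j x ^ 8 = j x := fun x => by
    rw [← map_pow, show (8 : ℕ) = Fintype.card (GaloisField 2 3) from h8.symm, FiniteField.pow_card]
  have hjsurj : ∀ y : K, y ^ 8 = y → ∃ x, j x = y := by
    intro y hy
    by_contra hne
    push Not at hne
    have h0 : (Polynomial.X ^ 8 - Polynomial.X : Polynomial K) = 0 := by
      refine Polynomial.eq_zero_of_natDegree_lt_card_of_eval_eq_zero _
        (f := fun o : Option (GaloisField 2 3) => o.elim y j) ?_ (fun o => ?_) ?_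
      · rintro (_ | x) (_ | x') h
        · rfl
        · exact absurd h.symm (hne x')
        · exact absurd h (hne x)
        · exact congrArg some (j.injective h)
      · cases o with
        | none => simp [hy]
        | some x => simp [hj8]
      · rw [FiniteField.X_pow_card_sub_X_natDegree_eq _ (by norm_num : 1 < 8), Fintype.card_option, h8]
        norm_num
    exact FiniteField.X_pow_card_sub_X_ne_zero _ (by norm_num : 1 < 8) h0
  obtain ⟨t₀, ht₀⟩ := IsAlgClosed.exists_pow_nat_eq ((a⁻¹ : Kˣ) : K) (show 0 < 7 by norm_num)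
  have ht0 : t₀ ≠ 0 := fun e => (a⁻¹).ne_zero (by rw [← ht₀, e, zero_pow (by norm_num)])
  have hat : (a : K) * t₀ ^ 8 = t₀ := by
    rw [pow_succ, ht₀, ← mul_assoc, Units.mul_inv, one_mul]
  have hat' : ((a⁻¹ : Kˣ) : K) * t₀⁻¹ ^ 8 = t₀⁻¹ := by
    rw [inv_pow]
    conv_rhs => rw [← hat, mul_inv, ← Units.val_inv_eq_inv_val]
  let εF : SpecialLinearGroup (Fin 2) (GaloisField 2 3) → SpecialLinearGroup (Fin 2) K := fun g =>
    mkSL !![j (g.1 0 0), t₀ * j (g.1 0 1); t₀⁻¹ * j (g.1 1 0), j (g.1 1 1)] (by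
      have h := congrArg j (Matrix.det_fin_two g.1)
      rw [g.2, map_one, map_sub, map_mul, map_mul] at h
      simp [Matrix.det_fin_two]
      field_simp
      linear_combination -h)
  have hεF : ∀ g, (εF g).1 = !![j (g.1 0 0), t₀ * j (g.1 0 1); t₀⁻¹ * j (g.1 1 0), j (g.1 1 1)] :=
    fun g => rfl
  let ε := MonoidHom.mk' εF fun g h => by
    refine sl_ext ?_ ?_ ?_ ?_
    all_goals simp [hεF, val_mul', Matrix.mul_apply, Fin.sum_univ_two]
    all_goals field_simp
    all_goals ring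
  have hεv : ∀ g, (ε g).1 = !![j (g.1 0 0), t₀ * j (g.1 0 1); t₀⁻¹ * j (g.1 1 0), j (g.1 1 1)] :=
    fun g => rfl
  have hεinj : Function.Injective ε := fun g h e => by
    have h1 := congrArg (fun x : SpecialLinearGroup (Fin 2) K => x.1) e
    refine sl_ext ?_ ?_ ?_ ?_ <;> refine j.injective ?_
    · simpa [hεv] using congrFun (congrFun h1 0) 0
    · simpa [hεv, ht0] using congrFun (congrFun h1 0) 1
    · simpa [hεv, ht0] using congrFun (congrFun h1 1) 0
    · simpa [hεv] using congrFun (congrFun h1 1) 1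
  have hεfix : ∀ g, tw a (ε g) = ε g := fun g => by
    refine sl_ext ?_ ?_ ?_ ?_ <;> simp only [tw_val, hεv]
    · simp [hj8]
    · simp [mul_pow, hj8, ← mul_assoc, hat]
    · simp [mul_pow, hj8, ← mul_assoc, -Units.val_inv_eq_inv_val]; left; rw [← inv_pow]; exact hat'
    · simp [hj8]
  have hεsurj : ∀ x, tw a x = x → ∃ g, ε g = x := by
    intro x hx
    have h1 := congrArg (fun x : SpecialLinearGroup (Fin 2) K => x.1) hx
    simp only [tw_val] at h1
    have e00 : x.1 0 0 ^ 8 = x.1 0 0 := by simpa using congrFun (congrFun h1 0) 0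
    have e01 : (a : K) * x.1 0 1 ^ 8 = x.1 0 1 := by simpa using congrFun (congrFun h1 0) 1
    have e10 : ((a⁻¹ : Kˣ) : K) * x.1 1 0 ^ 8 = x.1 1 0 := by simpa using congrFun (congrFun h1 1) 0
    have e11 : x.1 1 1 ^ 8 = x.1 1 1 := by simpa using congrFun (congrFun h1 1) 1
    have f01 : (x.1 0 1 * t₀⁻¹) ^ 8 = x.1 0 1 * t₀⁻¹ := by
      conv_rhs => rw [← e01, ← hat']
      rw [mul_pow]
      linear_combination -(x.1 0 1 ^ 8 * t₀⁻¹ ^ 8) * Units.mul_inv a
    have f10 : (x.1 1 0 * t₀) ^ 8 = x.1 1 0 * t₀ := by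
      conv_rhs => rw [← e10, ← hat]
      rw [mul_pow]
      linear_combination -(x.1 1 0 ^ 8 * t₀ ^ 8) * Units.mul_inv a
    obtain ⟨g00, h00⟩ := hjsurj _ e00
    obtain ⟨g01, h01⟩ := hjsurj _ f01
    obtain ⟨g10, h10⟩ := hjsurj _ f10
    obtain ⟨g11, h11⟩ := hjsurj _ e11
    have hd : !![g00, g01; g10, g11].det = 1 := j.injective (by
      rw [map_one, Matrix.det_fin_two]
      simp [h00, h01, h10, h11]
      have h := Matrix.det_fin_two x.1
      rw [x.2] at h
      field_simp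
      linear_combination -h)
    refine ⟨mkSL _ hd, sl_ext ?_ ?_ ?_ ?_⟩ <;> simp [hεv, mkSL_val, h00, h01, h10, h11] <;> field_simp
  -- the automorphism
  have hαtw : ∀ g, α (tw a g) = tw a (α g) := fun g => hφ (by
    rw [← hα, ← hrel g, ← hrel (α g), ← hα]
    conv_lhs => rw [← hY]
    rw [map_mul, map_mul, map_inv, hY])
  have hex : ∀ g, ∃ g', ε g' = α (ε g) := fun g => hεsurj _ (by rw [← hαtw, hεfix])
  choose β hβ using hex
  have hφβ : ∀ g, φ (ε (β g)) = Y * φ (ε g) * Y⁻¹ := fun g => by rw [hβ, hα]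
  have hin : Function.Injective fun g => φ (ε g) := hφ.comp hεinj
  let βh : SpecialLinearGroup (Fin 2) (GaloisField 2 3) →* SpecialLinearGroup (Fin 2) (GaloisField 2 3) :=
    MonoidHom.mk' β fun g h => hin (by simp only [hφβ, map_mul]; group)
  have hβb : Function.Bijective βh := Finite.injective_iff_bijective.1 fun g h e => hin (by
    have e2 := congrArg (fun g => φ (ε g)) e
    simpa [βh, hφβ] using e2)
  let B : MulAut (SpecialLinearGroup (Fin 2) (GaloisField 2 3)) := MulEquiv.ofBijective βh hβb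
  have hB : ∀ (n : ℕ) (g : SpecialLinearGroup (Fin 2) (GaloisField 2 3)),
      φ (ε ((B ^ n) g)) = Y ^ n * φ (ε g) * (Y ^ n)⁻¹ := fun n => by
    induction n with
    | zero => intro g; simp
    | succ n ih =>
      intro g
      rw [pow_succ', MulAut.mul_apply]
      show φ (ε (β _)) = _
      rw [hφβ, ih, pow_succ']
      group
  have hB1 : B = 1 := mulAut_eq_one h8 B (MulEquiv.ext fun g => hin (by
    show φ (ε ((B ^ 5) g)) = φ (ε g)
    rw [hB, h5]
    simp))
  have hη8 : (η : K) ^ 8 = η := by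
    rw [← Units.val_pow_eq_pow_val, pow_succ, hη, one_mul]
  obtain ⟨e, he⟩ := hjsurj _ hη8
  have he0 : e ≠ 0 := fun h => η.ne_zero (by rw [← he, h, map_zero])
  set E := mkSL !![e, 0; 0, e⁻¹] (by simp [Matrix.det_fin_two, he0]) with hE
  have hd : ε E = dg η := by
    refine sl_ext ?_ ?_ ?_ ?_ <;> simp [hεv, hE, mkSL_val, dg_val, he, Units.val_inv_eq_inv_val]
  have h1 := hφβ E
  have h2 : β E = E := by
    show (B : MulAut (SpecialLinearGroup (Fin 2) (GaloisField 2 3))) E = E
    rw [hB1]; rfl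
  rw [h2, hd] at h1
  exact (mul_inv_eq_iff_eq_mul.1 h1.symm)

end CfsgLib.Lie.SixtyFiveE7
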