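import Cfsg.Agent.Lib.Lie.Chev.CoxTorus.E7.SixtyFive.Data
import Cfsg.Agent.Lib.Lie.Chev.CoxTorus.E7.SixtyFive.Rank1
import Cfsg.Agent.Lib.Lie.Chev.SL2Root

/-!
# The three commuting rank one subgroups on which the eigenvector modulo 13 vanishes
-/

set_option autoImplicit false
set_option maxRecDepth 100000

namespace CfsgLib.Lie.SixtyFiveE7

open Cfsg.Lie CfsgLib.Lie.Chev CfsgLib.Lie.CoxTorus CfsgLib.Lie.CoxTorusE7 CfsgLib.Lie.CoxTorusE6
open CfsgLib.Lie.SL2Rel CfsgLib.Lie.Homocyclic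
open scoped MatrixGroups Matrix

variable {K : Type*} [Field K]

/-- the three roots -/
noncomputable def rt (i : Fin 3) : Fin chevE7.nroots := ⟨rN i.val, nroots126.symm ▸ rN_lt i.val⟩

theorem rt_val (i : Fin 3) : (rt i).val = rN i.val := rfl

theorem rt_pos (i : Fin 3) : chevE7.IsPosRoot (rt i).val := by
  rw [cE7.G.isPosRoot_iff]
  refine lt_of_le_of_ne (Finset.sum_nonneg fun j _ => mul_nonneg ?_ (pow_nonneg cE7.G.base_pos.le _))
    (Ne.symm (cE7.G.ht_ne_zero _))
  rw [rho7]
  exact rN_pos i ⟨j.val, rank7 ▸ j.isLt⟩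

/-- the homomorphism from `SL(2, K)` of one of the three roots -/
noncomputable def phi (i : Fin 3) : SL(2, K) →* GL chevE7.Idx K :=
  (cE7.G.sl2Fam (rt i)).hom (cE7.G.sl2Fam_mult (rt i))

theorem phi_upper (i : Fin 3) (t : K) : phi i (Fam.upper t) = cE7.G.xu (rt i) t := Fam.hom_upper _ _ t

theorem phi_lower (i : Fin 3) (t : K) : phi i (Fam.lower t) = cE7.G.xu (cE7.G.negr (rt i)) t :=
  Fam.hom_lower _ _ t

theorem phi_dg (i : Fin 3) (e : Kˣ) : phi i (dg e) = cE7.G.hd (rt i) e := by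
  have h : dg e = Fam.upper (e : K) * Fam.lower (-(e : K)⁻¹) * Fam.upper (e : K) *
      (Fam.upper (-1) * Fam.lower 1 * Fam.upper (-1)) := by
    refine sl_ext ?_ ?_ ?_ ?_ <;>
      simp [dg_val, upper_val, lower_val, val_mul', Matrix.mul_apply, Fin.sum_univ_two,
        Units.val_inv_eq_inv_val]
  rw [h, ← cE7.G.hE_eq, Good.hE, Good.nE, Good.nE]
  simp only [map_mul, phi_upper, phi_lower, inv_neg, inv_one, neg_neg]

theorem chi_level (γ : Kˣ) (z : ℕ → ℤ) (v : Fin chevE7.rank → ℤ) (v' : ℕ → ℤ)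
    (h : ∀ k, v k = v' k.val) :
    cE7.G.chi (fun k => γ ^ z k.val) v = γ ^ (∑ k : Fin 7, v' k.val * z k.val) := by
  rw [chi_pow cE7 (fun k => γ ^ z k.val) (z := fun k => z k.val) (fun k => rfl), ← sum7 fun k => v' k * z k]
  simp only [dotProduct, h]

theorem chi_root (γ : Kˣ) (z : ℕ → ℤ) (s : Fin chevE7.nroots) :
    cE7.G.chi (fun k => γ ^ z k.val) (cE7.G.rho s) = γ ^ (∑ k : Fin 7, rc7 s.val k.val * z k.val) :=
  chi_level γ z _ (rc7 s.val) fun k => rho7 s k

theorem pair_rt (i : Fin 3) (l : Fin chevE7.rank) : cE7.G.pair (rt i) l = pc i.val l.val := by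
  rw [Good.pair]
  simp only [← cart7]
  rw [sum7 fun j => (chevE7.coroot.getD (rt i).val #[]).getD j 0 * a7 l.val j]
  exact pc_spec i ⟨l.val, rank7 ▸ l.isLt⟩

theorem hd_rt (i : Fin 3) (e : Kˣ) : cE7.G.hd (rt i) e = cE7.G.tor fun k => e ^ pc i.val k.val := by
  refine congrArg cE7.G.tor (funext fun l => ?_)
  show e ^ cE7.G.pair (rt i) l = _
  rw [pair_rt]

theorem phi_injective [CharP K 2] (i : Fin 3) : Function.Injective (phi (K := K) i) := by
  rw [injective_iff_map_eq_one]
  intro g hg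
  have hd : g.1 0 0 * g.1 1 1 - g.1 0 1 * g.1 1 0 = 1 := by rw [← Matrix.det_fin_two]; exact g.2
  by_cases hc : g.1 1 0 = 0
  · rw [hc, mul_zero, sub_zero] at hd
    have ha : g.1 0 0 ≠ 0 := left_ne_zero_of_mul_eq_one hd
    set e := Units.mk0 _ ha
    have hge : g = dg e * Fam.upper (g.1 0 1 / g.1 0 0) := by
      refine sl_ext ?_ ?_ ?_ ?_
      all_goals rw [val_mul', dg_val, upper_val]
      all_goals simp [Matrix.mul_apply, Fin.sum_univ_two, e, hc]
      · field_simp
      · field_simp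
        linear_combination hd
    rw [hge, map_mul, phi_dg, phi_upper, mul_eq_one_comm] at hg
    obtain ⟨h1, h2⟩ := cE7.G.eq_one_of_U_H (cE7.G.xu_mem_U (rt_pos i) _) (cE7.G.hd_mem_H _ _) hg
    rw [cE7.G.xu_eq_one_iff] at h1
    rw [hd_rt] at h2
    have h3 := congrArg (fun v => cE7.G.chi v (cE7.G.rho (rt i))) (cE7.G.tor_eq_one h2)
    rw [chi_root, rt_val, pc_self] at h3
    simp [Good.chi] at h3
    have h4 : g.1 0 0 = 1 := by
      have h5 := congrArg Units.val h3
      simp only [zpow_ofNat, Units.val_pow_eq_pow_val, e, Units.val_mk0, Units.val_one] at h5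
      have h6 : (g.1 0 0 + 1) ^ 2 = 0 := by
        linear_combination h5 + (g.1 0 0 + 1) * CharTwo.two_eq_zero (R := K)
      exact CharTwo.add_eq_zero.1 (pow_eq_zero_iff (by norm_num) |>.1 h6)
    rw [hge, h1, show e = 1 from Units.ext h4]
    refine sl_ext ?_ ?_ ?_ ?_ <;> simp [dg_val, upper_val, val_mul', Matrix.mul_apply]
  · exfalso
    set t : K := -(g.1 1 0)⁻¹ with htdef
    have ht : t ≠ 0 := neg_ne_zero.2 (inv_ne_zero hc)
    have hge : g = Fam.upper (g.1 0 0 / g.1 1 0) * (Fam.upper t * Fam.lower (-t⁻¹) * Fam.upper t) *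
        Fam.upper (g.1 1 1 / g.1 1 0) := by
      refine sl_ext ?_ ?_ ?_ ?_
      all_goals simp only [val_mul', upper_val, lower_val]
      all_goals simp [Matrix.mul_apply, Fin.sum_univ_two, htdef]
      all_goals field_simp
      all_goals first | ring1 | linear_combination hd | linear_combination -hd | linear_combination (2 : K) * hd | linear_combination (-2 : K) * hd
    rw [hge, map_mul, map_mul, map_mul, map_mul, phi_upper, phi_upper, phi_upper, phi_lower] at hg
    have hn : cE7.G.nE (rt i) t = cE7.G.xu (rt i) (-(g.1 0 0 / g.1 1 0) + -(g.1 1 1 / g.1 1 0)) := by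
      rw [cE7.G.xu_add, ← cE7.G.xu_inv, ← cE7.G.xu_inv, eq_inv_mul_iff_mul_eq]
      exact eq_inv_of_mul_eq_one_left hg
    have h := cE7.G.nE_xu (rt i) t 1 ht
    rw [hn, ← cE7.G.xu_add, cE7.G.xu_inv, ← cE7.G.xu_add] at h
    refine cE7.G.negr_ne (rt i) (cE7.G.xu_eq_xu h fun h0 => one_ne_zero (α := K) ?_).symm
    linear_combination h0

theorem commute_phi [CharP K 2] {i : Fin 3} {Z : GL chevE7.Idx K}
    (h1 : ∀ t, Commute Z (cE7.G.xu (rt i) t)) (h2 : ∀ t, Commute Z (cE7.G.xu (cE7.G.negr (rt i)) t))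
    (y : SL(2, K)) : Commute Z (phi i y) := by
  refine Fam.mem_gens (P := fun y => Commute Z (phi i y)) ?_ ?_ ?_ y
  · intro a b ha hb
    rw [map_mul]
    exact ha.mul_right hb
  · intro t
    rw [phi_upper]
    exact h1 t
  · rw [wel_eq_two, map_mul, map_mul, phi_upper, phi_lower]
    exact ((h1 1).mul_right (h2 1)).mul_right (h1 1)

theorem phi_commute {i i' : Fin 3} (hii : i ≠ i') [CharP K 2] (x y : SL(2, K)) :
    Commute (phi i x) (phi i' y) := by
  have key : ∀ a b : Fin chevE7.nroots, a.val ∈ [rN i.val, fastE7.negs.get (rN i.val)] →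
      b.val ∈ [rN i'.val, fastE7.negs.get (rN i'.val)] → ∀ t t' : K,
      Commute (cE7.G.xu a t) (cE7.G.xu b t') := by
    intro a b ha hb t t'
    obtain ⟨h1, h2, h3⟩ := no_comm3 i i' hii _ ha _ hb
    exact commute_of_noterms h1 h2 h3 t t'
  have hn : ∀ a : Fin 3, (cE7.G.negr (rt a)).val ∈ [rN a.val, fastE7.negs.get (rN a.val)] := by
    intro a
    rw [← negs7, rt_val]
    exact List.mem_cons_of_mem _ (List.mem_cons_self ..)
  have hp : ∀ a : Fin 3, (rt a).val ∈ [rN a.val, fastE7.negs.get (rN a.val)] := by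
    intro a
    rw [rt_val]
    exact List.mem_cons_self ..
  refine (commute_phi (fun t => ?_) (fun t => ?_) y)
  · exact (commute_phi (fun t' => (key _ _ (hp i) (hp i') t' t).symm)
      (fun t' => (key _ _ (hn i) (hp i') t' t).symm) x).symm
  · exact (commute_phi (fun t' => (key _ _ (hp i) (hn i') t' t).symm)
      (fun t' => (key _ _ (hn i) (hn i') t' t).symm) x).symm

/-- conjugation by `g` carries the three subgroups into one another as `f` does -/
def Sends (g : GL chevE7.Idx K) (f : Fin 3 → Fin 3) : Prop :=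
  ∀ i x, ∃ y, g * phi i x * g⁻¹ = phi (f i) y

theorem Sends.mul {g g' : GL chevE7.Idx K} {f f' : Fin 3 → Fin 3} (h : Sends g f) (h' : Sends g' f') :
    Sends (g * g') (f ∘ f') := fun i x => by
  obtain ⟨y, hy⟩ := h' i x
  obtain ⟨z, hz⟩ := h (f' i) y
  exact ⟨z, by rw [Function.comp_apply, ← hz, ← hy]; group⟩

theorem Sends.pow {g : GL chevE7.Idx K} {f : Fin 3 → Fin 3} (h : Sends g f) :
    ∀ n, Sends (g ^ n) (f^[n])
  | 0 => fun i x => ⟨x, by simp⟩
  | n + 1 => by
    rw [pow_succ', Function.iterate_succ']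
    exact h.mul (Sends.pow h n)

/-- the subgroup generated by the three positive root subgroups -/
def levU (K : Type*) [Field K] : Subgroup (GL chevE7.Idx K) :=
  Subgroup.closure {x | ∃ i t, x = cE7.G.xu (rt i) t}

theorem sends_levU [CharP K 2] {g : GL chevE7.Idx K} (hg : g ∈ levU K) : Sends g id := by
  unfold levU at hg
  induction hg using Subgroup.closure_induction_left with
  | one => exact fun i x => ⟨x, by simp⟩
  | mul_left a ha b _ ih =>
    refine fun i x => Sends.mul (f := id) (f' := id) ?_ ih i x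
    obtain ⟨i', t, rfl⟩ := ha
    intro i x
    rcases eq_or_ne i' i with rfl | hne
    · exact ⟨Fam.upper t * x * (Fam.upper t)⁻¹, by simp [phi_upper]⟩
    · refine ⟨x, ?_⟩
      rw [← phi_upper, (phi_commute hne _ _).eq, mul_inv_cancel_right]
      rfl
  | inv_mul_cancel a ha b _ ih =>
    refine fun i x => Sends.mul (f := id) (f' := id) ?_ ih i x
    obtain ⟨i', t, rfl⟩ := ha
    rw [cE7.G.xu_inv]
    intro i x
    rcases eq_or_ne i' i with rfl | hne
    · exact ⟨Fam.upper (-t) * x * (Fam.upper (-t))⁻¹, by simp [phi_upper]⟩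
    · refine ⟨x, ?_⟩
      rw [← phi_upper, (phi_commute hne _ _).eq, mul_inv_cancel_right]
      rfl

theorem iter_five : ∀ f : Fin 3 → Fin 3, f^[5] = id → f = id := by decide

theorem Sends.eq_id [CharP K 2] {g : GL chevE7.Idx K} {f : Fin 3 → Fin 3} (h : Sends g f)
    (h5 : g ^ 5 = 1) : f = id := by
  have hf : f^[5] = id := funext fun i => by
    by_contra hne
    obtain ⟨y, hy⟩ := (h.pow 5) i (Fam.upper 1)
    rw [h5, one_mul, inv_one, mul_one] at hy
    have hc : Commute (phi i (Fam.upper (1 : K))) (phi i (Fam.lower 1)) := by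
      rw [hy]
      exact phi_commute hne _ _
    have e : phi i (Fam.upper 1 * Fam.lower 1) = phi i (Fam.lower 1 * Fam.upper (1 : K)) := by
      rw [map_mul, map_mul]; exact hc.eq
    have e1 := congrArg (fun x : SL(2, K) => x.1 0 0) (phi_injective i e)
    simp [val_mul', upper_val, lower_val, Matrix.mul_apply, CharTwo.add_self_eq_zero] at e1
  exact iter_five f hf

end CfsgLib.Lie.SixtyFiveE7
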