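import Cfsg.Agent.Lib.Lie.Chev.CoxTorus.E7.SixtyFive.Core
import Cfsg.Agent.Lib.Lie.Chev.CoxE6Torus.Twist

/-!
# `E₇(2)` has no element of order 65
-/

set_option autoImplicit false
set_option maxRecDepth 100000

namespace CfsgLib.Lie.SixtyFiveE7

open Cfsg.Lie CfsgLib.Lie.Chev CfsgLib.Lie.CoxTorus CfsgLib.Lie.CoxTorusE7 CfsgLib.Lie.CoxTorusE6
open CfsgLib.Lie.Homocyclic
open scoped MatrixGroups Matrix

variable {F : Type*} [Field F] [Fintype F]

theorem not_sq_thirteen (h2 : Fintype.card F = 2) : ¬ 13 ^ 2 ∣ Nat.card ↥(chevE7.group F) := by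
  intro hd
  have h := cE7.order_formula (K := F) kerE7 kerE7_ok
  rw [h2, show kerE7.d = 2 from rfl, show kerE7.k = 1 from rfl, degE7 ((2 : ℕ) : ℤ),
    show chevE7.nroots / 2 = 63 from by rw [nroots126]] at h
  have e : ∏ i : Fin chevE7.rank, (((2 : ℕ) : ℤ) ^ vecOfList (l := chevE7.rank) [2, 6, 8, 10, 12, 14, 18] i - 1) =
      ∏ i : Fin 7, ((2 : ℤ) ^ ([2, 6, 8, 10, 12, 14, 18] : List ℕ).getD i.val 0 - 1) :=
    Fintype.prod_equiv (finCongr rank7) _ _ fun i => rfl
  rw [e] at h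
  simp only [Nat.cast_mul, Nat.cast_pow, Fin.prod_univ_seven] at h
  norm_num at h
  have h' : ((13 : ℤ) ^ 2) ∣ (Nat.card ↥(chevE7.group F) : ℤ) := by exact_mod_cast hd
  rw [h] at h'
  norm_num at h'

theorem sylow_cyclic {G : Type*} [Group G] [Finite G] {p : ℕ} [hp : Fact p.Prime]
    (h : ¬ p ^ 2 ∣ Nat.card G) (P : Sylow p G) : IsCyclic ↥(P : Subgroup G) := by
  obtain ⟨n, hn⟩ := IsPGroup.iff_card.1 P.isPGroup'
  have hn2 : n < 2 := by
    by_contra hh
    exact h ((pow_dvd_pow p (by omega : 2 ≤ n)).trans (hn ▸ (P : Subgroup G).card_subgroup_dvd_card))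
  interval_cases n
  · haveI : Subsingleton ↥(P : Subgroup G) :=
      Finite.card_le_one_iff_subsingleton.1 (by rw [hn]; norm_num)
    infer_instance
  · exact isCyclic_of_prime_card (hn.trans (pow_one p))

/-- no element of the group has order 65 -/
theorem order_ne (h2 : Fintype.card F = 2) (z : ↥(chevE7.group F)) : orderOf z ≠ 65 := by
  classical
  intro hz
  set ι := algebraMap F (AlgebraicClosure F)
  haveI : Fact (Nat.Prime 13) := ⟨by norm_num⟩
  haveI hF2 : CharP F 2 := by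
    obtain ⟨n, hp, hn⟩ := FiniteField.card F (ringChar F)
    have h : ringChar F ∣ 2 := by rw [← h2, hn]; exact dvd_pow_self _ n.ne_zero
    exact (Nat.prime_dvd_prime_iff_eq hp Nat.prime_two).1 h ▸ ringChar.charP F
  haveI : CharP (AlgebraicClosure F) 2 := charP_of_injective_ringHom ι.injective 2
  obtain ⟨c, hc, hmon, hperm⟩ := exists_frame (F := F)
  set m := c⁻¹ * fmap chevE7 (frob F) c with hm
  have hσ : ∀ a : AlgebraicClosure F, frob F a = a ^ 2 := fun a => by rw [frob_pow, h2]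
  haveI : NeZero ((91 : ℕ) : AlgebraicClosure F) := ⟨by
    intro h
    have := (CharP.cast_eq_zero_iff (AlgebraicClosure F) 2 91).1 h
    omega⟩
  obtain ⟨ζ₀, hζ₀⟩ := HasEnoughRootsOfUnity.exists_primitiveRoot (AlgebraicClosure F) 91
  set ζ : (AlgebraicClosure F)ˣ := (hζ₀.isUnit (by norm_num)).unit
  have hζ : IsPrimitiveRoot ζ 91 := IsPrimitiveRoot.coe_units_iff.1 hζ₀
  have hγ : IsPrimitiveRoot (ζ ^ 7) 13 := hζ.pow (by norm_num) (by norm_num)
  set v : Fin chevE7.rank → (AlgebraicClosure F)ˣ := fun k => (ζ ^ 7) ^ zA k.val with hv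
  have hmv : m * cE7.G.tor (v ^ 2) = cE7.G.tor v * m := by
    refine conj_of_chi cE7 hmon hperm fun j => ?_
    rw [hv, chi_root, wCox_val, simp7_val, Pi.pow_apply, ← zpow_natCast ((ζ ^ 7) ^ zA j.val),
      ← zpow_mul, ← mul_inv_eq_one, ← zpow_sub, hγ.zpow_eq_one_iff_dvd, mul_comm (zA j.val)]
    exact Int.dvd_of_emod_eq_zero (eig13 ⟨j.val, rank7 ▸ j.isLt⟩)
  have hσv : fmap chevE7 (frob F) (cE7.G.tor v) = cE7.G.tor (v ^ 2) := by
    rw [cE7.G.fmap_tor]
    exact congrArg _ (funext fun i => Units.ext (by simpa using hσ (v i : AlgebraicClosure F)))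
  have hσc : fmap chevE7 (frob F) c = c * m := by rw [hm, mul_inv_cancel_left]
  obtain ⟨x, hx⟩ := descend h2 (y := c * cE7.G.tor v * c⁻¹)
    (mul_mem (mul_mem hc (cE7.G.diagonal_le_group (tor_diag v))) (inv_mem hc))
    (by rw [map_mul, map_mul, map_inv, hσv, hσc, mul_inv_rev, mul_assoc c m, hmv]; group)
  set ψ : ↥(chevE7.group F) →* GL chevE7.Idx (AlgebraicClosure F) :=
    ((MulAut.conj c⁻¹).toMonoidHom.comp (fmap chevE7 ι)).comp (chevE7.group F).subtype with hψd
  have hψ : ∀ g, ψ g = c⁻¹ * fmap chevE7 ι g.1 * c := fun g => by simp [hψd]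
  have hψinj : Function.Injective ψ := fun a b h => by
    rw [hψ, hψ, mul_left_inj, mul_right_inj] at h
    exact Subtype.ext (fmap_injective ι h)
  have hψx : ψ x = cE7.G.tor v := by rw [hψ, hx]; group
  have hx13 : orderOf x = 13 := by
    refine orderOf_eq_prime (hψinj ?_) fun h => ?_
    · rw [map_pow, hψx, ← map_pow, map_one, ← map_one cE7.G.tor]
      congr 1
      funext k
      rw [Pi.pow_apply, Pi.one_apply, hv, ← zpow_natCast, ← zpow_mul, hγ.zpow_eq_one_iff_dvd]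
      exact dvd_mul_left _ _
    · rw [h, map_one] at hψx
      have := congrFun (cE7.G.tor_eq_one hψx.symm) ⟨6, rank7.symm ▸ by norm_num⟩
      simp only [hv, Pi.one_apply, show zA 6 = 1 from rfl, zpow_one] at this
      exact hγ.ne_one (by norm_num) this
  have h13 : orderOf (z ^ 5) = 13 := by
    rw [orderOf_pow, hz]; rfl
  have h5 : orderOf (z ^ 13) = 5 := by
    rw [orderOf_pow, hz]; rfl
  obtain ⟨k, j, hk⟩ := CfsgLib.Lie.CoxE6.exists_conj_pow (sylow_cyclic (not_sq_thirteen h2)) hx13 h13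
  set y := k⁻¹ * z ^ 13 * k with hy
  have hj : orderOf (x ^ j) = 13 := by
    rw [← hk, orderOf_eq_prime_iff]
    constructor
    · rw [show (k⁻¹ * z ^ 5 * k) ^ 13 = k⁻¹ * (z ^ 5) ^ 13 * k from by
        simpa using conj_pow (a := k⁻¹) (b := z ^ 5) (i := 13), ← h13, pow_orderOf_eq_one]
      simp
    · intro h
      have h' : z ^ 5 = 1 := by
        calc z ^ 5 = k * (k⁻¹ * z ^ 5 * k) * k⁻¹ := by group
          _ = 1 := by rw [h]; simp
      rw [h', orderOf_one] at h13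
      norm_num at h13
  have hmem : x ∈ Subgroup.zpowers (x ^ j) := by
    have he : Subgroup.zpowers (x ^ j) = Subgroup.zpowers x := by
      refine Subgroup.eq_of_le_of_card_ge (Subgroup.zpowers_le.2 (pow_mem (Subgroup.mem_zpowers x) j)) ?_
      rw [Nat.card_zpowers, Nat.card_zpowers, hj, hx13]
    rw [he]; exact Subgroup.mem_zpowers x
  have hcomm : Commute y x := by
    obtain ⟨e, he⟩ := Subgroup.mem_zpowers_iff.1 hmem
    rw [← he, ← hk, hy]
    refine Commute.zpow_right ?_ e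
    show _ * _ = _ * _
    calc k⁻¹ * z ^ 13 * k * (k⁻¹ * z ^ 5 * k) = k⁻¹ * (z ^ 13 * z ^ 5) * k := by group
      _ = k⁻¹ * (z ^ 5 * z ^ 13) * k := by rw [← pow_add, ← pow_add, add_comm]
      _ = _ := by group
  have hy5 : y ^ 5 = 1 := by
    rw [hy, show (k⁻¹ * z ^ 13 * k) ^ 5 = k⁻¹ * (z ^ 13) ^ 5 * k from by
      simpa using conj_pow (a := k⁻¹) (b := z ^ 13) (i := 5), ← h5, pow_orderOf_eq_one]
    simp
  have hcore := core (frob F) hσ (m := m) hperm hζ (Y := ψ y) ?_ ?_ ?_ (by rw [← map_pow, hy5, map_one])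
  · have : y = 1 := hψinj (hcore.trans (map_one ψ).symm)
    have h' : z ^ 13 = 1 := by
      calc z ^ 13 = k * y * k⁻¹ := by rw [hy]; group
        _ = 1 := by rw [this]; simp
    rw [h', orderOf_one] at h5
    norm_num at h5
  · rw [hψ]
    exact mul_mem (mul_mem (inv_mem hc) (cE7.G.fmap_mem_group ι y.2)) hc
  · show ψ y * cE7.G.tor v = cE7.G.tor v * ψ y
    rw [← hψx, ← map_mul, ← map_mul, hcomm.eq]
  · rw [hψ, map_mul, map_mul, map_inv, hσc, fmap_fmap, frob_comp]
    group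
    rfl

end CfsgLib.Lie.SixtyFiveE7
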