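import Cfsg.Agent.Lib.Classical.SL2Sylow
import Cfsg.Agent.Lib.Lie.SL2Rel

/-!
# Automorphisms of order five of `SL(2, 8)`

An automorphism of `SL(2, 8)` whose fifth power is trivial is trivial: it fixes two Sylow 2-subgroups
pointwise, and these generate the group.
-/

set_option autoImplicit false

namespace CfsgLib.Lie.SixtyFiveE7

open Matrix Pointwise CfsgLib.Lie.SL2Rel
open scoped MatrixGroups

variable {F : Type*} [Field F]

local notation "S" => SpecialLinearGroup (Fin 2) F

theorem sl_ext {g h : S} (h00 : g.1 0 0 = h.1 0 0) (h01 : g.1 0 1 = h.1 0 1) (h10 : g.1 1 0 = h.1 1 0)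
    (h11 : g.1 1 1 = h.1 1 1) : g = h :=
  Subtype.ext (Matrix.ext fun i j => by fin_cases i <;> fin_cases j <;> assumption)

theorem val_inv' (a : S) : (a⁻¹).1 = !![a.1 1 1, -a.1 0 1; -a.1 1 0, a.1 0 0] :=
  (Matrix.SpecialLinearGroup.coe_inv a).trans (Matrix.adjugate_fin_two a.1)

theorem upper_val (t : F) : (Fam.upper t : S).1 = !![1, t; 0, 1] := rfl

theorem lower_val (t : F) : (Fam.lower t : S).1 = !![1, 0; t, 1] := rfl

theorem wel_val : (Fam.wel : S).1 = !![0, -1; 1, 0] := rfl

theorem upper_add (s t : F) : (Fam.upper (s + t) : S) = Fam.upper s * Fam.upper t :=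
  sl_ext (by simp [upper_val, val_mul', Matrix.mul_apply]) (by simp [upper_val, val_mul', Matrix.mul_apply, add_comm])
    (by simp [upper_val, val_mul', Matrix.mul_apply]) (by simp [upper_val, val_mul', Matrix.mul_apply])

/-- the upper unipotent subgroup -/
def upHom : Multiplicative F →* S where
  toFun x := Fam.upper x.toAdd
  map_one' := sl_ext (by simp [upper_val]) (by simp [upper_val]) (by simp [upper_val]) (by simp [upper_val])
  map_mul' x y := upper_add x.toAdd y.toAdd

theorem upHom_val (x : Multiplicative F) : (upHom x).1 = !![1, x.toAdd; 0, 1] := rfl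

theorem upHom_injective : Function.Injective (upHom (F := F)) := fun x y h => by
  have := congrArg (fun g : S => g.1 0 1) h
  simpa [upHom_val] using this

/-- membership in the upper unipotent subgroup -/
theorem mem_up {g : S} : g ∈ (upHom (F := F)).range ↔ g.1 1 0 = 0 ∧ g.1 0 0 = 1 ∧ g.1 1 1 = 1 := by
  constructor
  · rintro ⟨x, rfl⟩
    simp [upHom_val]
  · rintro ⟨h1, h2, h3⟩
    exact ⟨Multiplicative.ofAdd (g.1 0 1), sl_ext (by simp [upHom_val, h2])
      (by simp [upHom_val]) (by simp [upHom_val, h1]) (by simp [upHom_val, h3])⟩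

theorem normalizes_iff (g : S) :
    g ∈ Subgroup.normalizer ((upHom (F := F)).range : Set S) → g.1 1 0 = 0 := by
  intro hg
  have h := (Subgroup.mem_normalizer_iff.1 hg (Fam.upper 1)).1 (mem_up.2 (by simp [upper_val]))
  have h1 := (mem_up.1 h).1
  rw [val_mul', val_mul', val_inv', upper_val] at h1
  simp [Matrix.mul_apply, Fin.sum_univ_two] at h1
  have h2 : g.1 1 0 * g.1 1 0 = 0 := by linear_combination -h1
  exact mul_self_eq_zero.1 h2

theorem borel_normalizes {g : S} (h : g.1 1 0 = 0) :
    g ∈ Subgroup.normalizer ((upHom (F := F)).range : Set S) := by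
  have hd : g.1 0 0 * g.1 1 1 = 1 := by
    have := Matrix.det_fin_two g.1
    rw [g.2, h, mul_zero, sub_zero] at this
    exact this.symm
  refine Subgroup.mem_normalizer_iff.2 fun x => ?_
  rw [mem_up, mem_up, val_mul', val_mul', val_inv']
  simp only [Matrix.mul_apply, Fin.sum_univ_two, h, Matrix.of_apply, Matrix.cons_val', Matrix.cons_val_zero,
    Matrix.cons_val_one, Matrix.empty_val', Matrix.cons_val_fin_one]
  have ha : g.1 0 0 ≠ 0 := left_ne_zero_of_mul_eq_one hd
  have hb : g.1 1 1 ≠ 0 := right_ne_zero_of_mul_eq_one hd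
  constructor
  · rintro ⟨h1, h2, h3⟩
    refine ⟨by rw [h1]; ring, ?_, ?_⟩
    · rw [h1, h2]; linear_combination hd
    · rw [h1, h3]; linear_combination hd
  · rintro ⟨h1, h2, h3⟩
    have e : x.1 1 0 = 0 := by
      have : g.1 1 1 * g.1 1 1 * x.1 1 0 = 0 := by linear_combination h1
      simpa [hb] using this
    rw [e] at h2 h3
    refine ⟨e, ?_, ?_⟩
    · have : (g.1 0 0 * g.1 1 1) * x.1 0 0 = 1 := by linear_combination h2
      rwa [hd, one_mul] at this
    · have : (g.1 0 0 * g.1 1 1) * x.1 1 1 = 1 := by linear_combination h3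
      rwa [hd, one_mul] at this

/-- a subgroup with the upper unipotents and a conjugate of them by an element outside the Borel
subgroup is everything -/
theorem eq_top_of_conj {C : Subgroup S} (hU : (upHom (F := F)).range ≤ C) {k : S} (hk : k.1 1 0 ≠ 0)
    (hkU : ∀ t, k * Fam.upper t * k⁻¹ ∈ C)
    (hsq : ∀ t : F, ∃ s, s * s = t) : C = ⊤ := by
  have hu : ∀ t, (Fam.upper t : S) ∈ C := fun t => hU ⟨Multiplicative.ofAdd t, rfl⟩
  set x : F := -(k.1 0 0 / k.1 1 0)
  have hl : ∀ t : F, (Fam.lower t : S) ∈ C := by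
    intro t
    obtain ⟨s, hs⟩ := hsq (-t)
    have hm := mul_mem (mul_mem (hu x) (hkU ((s / k.1 1 0) ^ 2))) (inv_mem (hu x))
    suffices e : Fam.upper x * (k * Fam.upper ((s / k.1 1 0) ^ 2) * k⁻¹) * (Fam.upper x)⁻¹ =
      (Fam.lower t : S) by rw [← e]; exact hm
    have hs' : k.1 1 0 * (s / k.1 1 0) = s := mul_div_cancel₀ s hk
    have hd : k.1 0 0 * k.1 1 1 - k.1 0 1 * k.1 1 0 = 1 := by rw [← det_fin_two]; exact k.2
    have hx : x * k.1 1 0 = -k.1 0 0 := by simp only [x]; field_simp
    have e1 : (Fam.upper x * (k * Fam.upper ((s / k.1 1 0) ^ 2) * k⁻¹) * (Fam.upper x)⁻¹ : S) =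
        (Fam.upper x * k) * Fam.upper ((s / k.1 1 0) ^ 2) * (Fam.upper x * k)⁻¹ := by group
    rw [e1]
    set k' : S := Fam.upper x * k with hk'
    have h00 : k'.1 0 0 = 0 := by
      simp [hk', upper_val, val_mul', Matrix.mul_apply, Fin.sum_univ_two]
      linear_combination hx
    have h10 : k'.1 1 0 = k.1 1 0 := by simp [hk', upper_val, val_mul', Matrix.mul_apply, Fin.sum_univ_two]
    have hdet : -(k'.1 0 1 * k'.1 1 0) = 1 := by
      have := Matrix.det_fin_two k'.1
      rw [k'.2, h00, zero_mul, zero_sub] at this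
      exact this.symm
    have hc : k'.1 1 0 * (s / k.1 1 0) = s := by rw [h10]; exact hs'
    refine sl_ext ?_ ?_ ?_ ?_
    all_goals rw [val_mul', val_mul', val_inv', upper_val, lower_val]
    all_goals simp [Matrix.mul_apply, Fin.sum_univ_two, h00]
    · linear_combination hdet
    · linear_combination (-(k'.1 1 0 * (s / k.1 1 0)) - s) * hc - hs
    · linear_combination hdet
  rw [eq_top_iff]
  rintro g -
  refine Fam.mem_gens (P := (· ∈ C)) (fun a b => mul_mem) hu ?_ g
  have e : (Fam.wel : S) = Fam.upper (-1) * Fam.lower 1 * Fam.upper (-1) :=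
    sl_ext (by simp [upper_val, lower_val, wel_val, val_mul', Matrix.mul_apply])
      (by simp [upper_val, lower_val, wel_val, val_mul', Matrix.mul_apply])
      (by simp [upper_val, lower_val, wel_val, val_mul', Matrix.mul_apply])
      (by simp [upper_val, lower_val, wel_val, val_mul', Matrix.mul_apply])
  rw [e]
  exact mul_mem (mul_mem (hu _) (hl _)) (hu _)

theorem charP_two_of_card [Fintype F] (h8 : Fintype.card F = 8) : CharP F 2 := by
  obtain ⟨n, hp, hn⟩ := FiniteField.card F (ringChar F)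
  have h : ringChar F ∣ 2 ^ 3 := by
    rw [show (2 : ℕ) ^ 3 = Fintype.card F by rw [h8]; norm_num, hn]
    exact dvd_pow_self _ n.ne_zero
  have := (Nat.prime_dvd_prime_iff_eq hp Nat.prime_two).1 (hp.dvd_of_dvd_pow h)
  exact this ▸ ringChar.charP F

theorem exists_sqrt [Fintype F] [CharP F 2] (t : F) : ∃ s, s * s = t := by
  obtain ⟨s, hs⟩ := (FiniteField.isSquare_of_char_two (ringChar.eq F 2) t)
  exact ⟨s, hs.symm⟩

variable [Fintype F]

instance : Fact (Nat.Prime 5) := ⟨by norm_num⟩

/-- an automorphism of `SL(2, 8)` with trivial fifth power is trivial -/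
theorem mulAut_eq_one (h8 : Fintype.card F = 8) (β : MulAut S) (h5 : β ^ 5 = 1) : β = 1 := by
  classical
  haveI := charP_two_of_card h8
  have hS : Nat.card S = 504 := by rw [CfsgLib.Classical.card_sl2, h8]
  set U := (upHom (F := F)).range
  have hU : Nat.card U = 8 := by
    rw [← Nat.card_congr (MonoidHom.ofInjective (upHom_injective (F := F))).toEquiv,
      Nat.card_congr Multiplicative.toAdd, Nat.card_eq_fintype_card, h8]
  have hUi : U.index = 63 := by
    have := U.card_mul_index
    rw [hU, hS] at this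
    omega
  have hUp : IsPGroup 2 U := IsPGroup.of_card (n := 3) (by rw [hU]; norm_num)
  set P₀ : Sylow 2 S := hUp.toSylow (by rw [hUi]; decide)
  have hP₀ : (P₀ : Subgroup S) = U := rfl
  -- the number of Sylow subgroups
  set N := Subgroup.normalizer (U : Set S)
  have hn : Nat.card (Sylow 2 S) = N.index := P₀.card_eq_index_normalizer
  have hN : 56 ≤ Nat.card N := by
    have hc : Nat.card (Fˣ × F) = 56 := by
      rw [Nat.card_prod, Nat.card_units, Nat.card_eq_fintype_card, h8]
    rw [← hc]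
    let f : Fˣ × F → N := fun p => ⟨⟨!![(p.1 : F), p.2; 0, ((p.1⁻¹ : Fˣ) : F)],
      by simp [Matrix.det_fin_two]⟩, borel_normalizes (by simp)⟩
    refine Nat.card_le_card_of_injective f fun p p' h => ?_
    have h1 := congrArg (fun g : N => g.1.1 0 0) h
    have h2 := congrArg (fun g : N => g.1.1 0 1) h
    simp [f] at h1 h2
    exact Prod.ext (Units.ext h1) h2
  have hnN : N.index * Nat.card N = 504 := by rw [Subgroup.index_mul_card, hS]
  have h8N : 8 ∣ Nat.card N := hU ▸ Subgroup.card_dvd_of_le Subgroup.le_normalizer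
  have hne : N.index ≠ 1 := by
    intro h
    have : (Fam.lower 1 : S) ∈ N := by rw [Subgroup.index_eq_one.1 h]; trivial
    have := normalizes_iff _ this
    simp [lower_val] at this
  have hrange : N.index ≤ 9 := by nlinarith
  have hn5 : N.index % 5 ≠ 0 ∧ N.index % 5 ≠ 1 := by
    obtain ⟨m, hm⟩ := h8N
    rw [hm] at hnN
    have hdv : N.index ∣ 63 := ⟨m, by nlinarith⟩
    have h0 : N.index ≠ 0 := Subgroup.index_ne_zero_of_finite
    interval_cases h : N.index <;> omega
  -- two fixed Sylow subgroups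
  have hP5 : IsPGroup 5 (Subgroup.zpowers β) := by
    have hd : Nat.card (Subgroup.zpowers β) ∣ 5 := by
      rw [Nat.card_zpowers]; exact orderOf_dvd_of_pow_eq_one h5
    rcases (Nat.dvd_prime (by norm_num : Nat.Prime 5)).1 hd with h | h
    · exact IsPGroup.of_card (n := 0) (by rw [h]; rfl)
    · exact IsPGroup.of_card (n := 1) (by rw [h, pow_one])
  have hmod := hP5.card_modEq_card_fixedPoints (Sylow 2 S)
  rw [hn] at hmod
  haveI : Nontrivial (MulAction.fixedPoints (Subgroup.zpowers β) (Sylow 2 S)) := by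
    rw [← Finite.one_lt_card_iff_nontrivial]
    unfold Nat.ModEq at hmod
    omega
  obtain ⟨⟨P, hP⟩, ⟨Q, hQ⟩, hPQ⟩ :=
    exists_pair_ne (MulAction.fixedPoints (Subgroup.zpowers β) (Sylow 2 S))
  set C : Subgroup S := MonoidHom.eqLocus β.toMonoidHom (MonoidHom.id S)
  -- a fixed Sylow subgroup is fixed pointwise
  have hfixP : ∀ R ∈ MulAction.fixedPoints (Subgroup.zpowers β) (Sylow 2 S),
      (R : Subgroup S) ≤ C := by
    intro R hR
    have hRS : ∀ x ∈ (R : Subgroup S), β x ∈ (R : Subgroup S) := fun x hx => by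
      have h := congrArg (fun T : Sylow 2 S => (T : Subgroup S)) (hR ⟨β, Subgroup.mem_zpowers β⟩)
      change (⟨β, Subgroup.mem_zpowers β⟩ : Subgroup.zpowers β) • (R : Subgroup S) = (R : Subgroup S) at h
      rw [← h]
      exact Subgroup.smul_mem_pointwise_smul x (⟨β, Subgroup.mem_zpowers β⟩ : Subgroup.zpowers β) _ hx
    let f : (R : Subgroup S) →* (R : Subgroup S) :=
      { toFun := fun x => ⟨β x.1, hRS _ x.2⟩
        map_one' := Subtype.ext (map_one β)
        map_mul' := fun x y => Subtype.ext (map_mul β x.1 y.1) }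
    have hf : Function.Bijective f := Finite.injective_iff_bijective.1 fun x y h =>
      Subtype.ext (β.injective (congrArg Subtype.val h))
    let γ : MulAut (R : Subgroup S) := MulEquiv.ofBijective f hf
    have hγ : ∀ (n : ℕ) (x : (R : Subgroup S)), ((γ ^ n) x).1 = (β ^ n) x.1 := fun n => by
      induction n with
      | zero => intro x; rfl
      | succ n ih =>
        intro x
        rw [pow_succ', pow_succ', MulAut.mul_apply, MulAut.mul_apply, ← ih]
        rfl
    have hγ5 : γ ^ 5 = 1 := MulEquiv.ext fun x => Subtype.ext (by rw [hγ, h5]; rfl)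
    have hG5 : IsPGroup 5 (Subgroup.zpowers γ) := by
      have hd : Nat.card (Subgroup.zpowers γ) ∣ 5 := by
        rw [Nat.card_zpowers]; exact orderOf_dvd_of_pow_eq_one hγ5
      rcases (Nat.dvd_prime (by norm_num : Nat.Prime 5)).1 hd with h | h
      · exact IsPGroup.of_card (n := 0) (by rw [h]; rfl)
      · exact IsPGroup.of_card (n := 1) (by rw [h, pow_one])
    have hm := hG5.card_modEq_card_fixedPoints (R : Subgroup S)
    set D : Subgroup (R : Subgroup S) := MonoidHom.eqLocus γ.toMonoidHom (MonoidHom.id _)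
    have hfp : MulAction.fixedPoints (Subgroup.zpowers γ) (R : Subgroup S) = (D : Set (R : Subgroup S)) := by
      ext x
      constructor
      · intro h
        exact h ⟨γ, Subgroup.mem_zpowers γ⟩
      · intro h g
        have hz : Subgroup.zpowers γ ≤ MulAction.stabilizer (MulAut (R : Subgroup S)) x :=
          Subgroup.zpowers_le.2 (MulAction.mem_stabilizer_iff.2 h)
        exact MulAction.mem_stabilizer_iff.1 (hz g.2)
    rw [hfp] at hm
    have hR8 : Nat.card (R : Subgroup S) = 8 := by
      rw [R.card_eq_multiplicity, ← P₀.card_eq_multiplicity]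
      exact hU
    have hD : Nat.card D ∣ 2 ^ 3 := by
      rw [show (2 : ℕ) ^ 3 = Nat.card (R : Subgroup S) by rw [hR8]; norm_num]
      exact D.card_subgroup_dvd_card
    have hD8 : Nat.card D = 8 := by
      obtain ⟨k, hk, hk'⟩ := (Nat.dvd_prime_pow Nat.prime_two).1 hD
      rw [hR8, show Nat.card ((D : Set (R : Subgroup S))) = Nat.card D from rfl, hk'] at hm
      rw [hk']
      unfold Nat.ModEq at hm
      interval_cases k <;> simp_all
    have hDt : D = ⊤ := Subgroup.eq_top_of_card_eq D (by rw [hD8, hR8])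
    intro x hx
    have : (⟨x, hx⟩ : (R : Subgroup S)) ∈ D := hDt ▸ Subgroup.mem_top _
    exact congrArg Subtype.val this
  -- transport to the upper unipotents
  obtain ⟨g, rfl⟩ := MulAction.exists_smul_eq S P₀ P
  obtain ⟨h, rfl⟩ := MulAction.exists_smul_eq S P₀ Q
  have hk : (g⁻¹ * h).1 1 0 ≠ 0 := by
    intro hz
    refine hPQ (Subtype.ext ?_)
    show g • P₀ = h • P₀
    rw [eq_comm, ← inv_smul_eq_iff, smul_smul, Sylow.smul_eq_iff_mem_normalizer]
    exact borel_normalizes hz
  have hmem : ∀ (a : S) (t : F), a • P₀ ∈ MulAction.fixedPoints (Subgroup.zpowers β) (Sylow 2 S) →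
      a * Fam.upper t * a⁻¹ ∈ C := fun a t ha => by
    refine hfixP _ ha ?_
    rw [Sylow.coe_subgroup_smul, hP₀]
    exact ⟨Fam.upper t, ⟨Multiplicative.ofAdd t, rfl⟩, rfl⟩
  have hC : C.comap (MulAut.conj g).toMonoidHom = ⊤ := by
    refine eq_top_of_conj ?_ hk (fun t => ?_) exists_sqrt
    · rintro _ ⟨x, rfl⟩
      exact hmem g _ hP
    · show g * (g⁻¹ * h * Fam.upper t * (g⁻¹ * h)⁻¹) * g⁻¹ ∈ C
      rw [show g * (g⁻¹ * h * Fam.upper t * (g⁻¹ * h)⁻¹) * g⁻¹ = h * Fam.upper t * h⁻¹ by group]
      exact hmem h t hQ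
  refine MulEquiv.ext fun x => ?_
  have hx : g⁻¹ * x * g ∈ C.comap (MulAut.conj g).toMonoidHom := hC ▸ Subgroup.mem_top _
  change g * (g⁻¹ * x * g) * g⁻¹ ∈ C at hx
  rw [show g * (g⁻¹ * x * g) * g⁻¹ = x by group] at hx
  exact hx

end CfsgLib.Lie.SixtyFiveE7
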